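/-
Central extensions of groups containing the root elements of a Chevalley datum.
-/
import Cfsg.Agent.Chev.SteinbergPres
import Cfsg.Prelude.Def_KGroupFacts

set_option autoImplicit false

namespace CfsgLib.ChevMult

open Cfsg.Lie CfsgLib.Chev
open scoped commutatorElement MatrixGroups

variable {D : ChevalleyDatum} {T : Tab D} (G : T.Good) (F : Type*) [Field F]

theorem commT_lt (G : T.Good) {r s : ℕ} (hr : r < D.nroots) (hs : s < D.nroots)
    {c : ℕ × ℤ × ℕ × ℕ} (hc : c ∈ T.commT r s) : c.1 < D.nroots := by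
  simp only [Tab.commT, List.mem_filterMap, List.mem_cons, List.not_mem_nil, or_false] at hc
  obtain ⟨a, ha, hc⟩ := hc
  obtain ⟨k, hk, rfl⟩ := Option.map_eq_some_iff.mp hc
  rcases ha with rfl | rfl | rfl | rfl | rfl | rfl | rfl
  · exact (G.rootT_add hr hs hk).1
  · exact (G.rootT_add hr hs hk).1
  · exact (G.rootT_add hs hr hk).1
  · exact (G.rootT_add hr hs hk).1
  · exact (G.rootT_add hs hr hk).1
  · obtain ⟨k', hk', hk''⟩ := Option.bind_eq_some_iff.mp hk
    exact (G.rootT_add (G.rootT_add hr hs hk').1 hs hk'').1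
  · obtain ⟨k', hk', hk''⟩ := Option.bind_eq_some_iff.mp hk
    exact (G.rootT_add (G.rootT_add hs hr hk').1 hr hk'').1

/-- A homomorphism with central kernel whose range contains all the root elements. -/
structure CentExt (Γ : Type*) [Group Γ] where
  /-- the map to matrices -/
  π : Γ →* GL D.Idx F
  central : π.ker ≤ Subgroup.center Γ
  lifts : ∀ (r : ℕ) (t : F), ∃ g, π g = G.full.x r t

variable {G F}

/-- The commutator of two root elements. -/
theorem x_commutator {r s : ℕ} (hr : r < D.nroots) (hs : s < D.nroots) (hsr : s ≠ r)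
    (hsn : s ≠ Tab.negR D r) (t u : F) :
    ⁅G.full.x s u, G.full.x r t⁆ =
      ((rhsWord (T.commT r s) (-t) (-u)).map fun p => G.full.x p.1 p.2).prod := by
  have h := G.full.x_comm hr hs hsr hsn (-t) (-u)
  rw [G.full.cert.commWord_eq hr hs, ← G.full.x_inv, ← G.full.x_inv] at h
  rw [commutatorElement_def]
  set P := ((rhsWord (T.commT r s) (-t) (-u)).map fun p => G.full.x p.1 p.2).prod
  rw [show P = G.full.x s u * G.full.x r t * ((G.full.x r t)⁻¹ * (G.full.x s u)⁻¹ * P) by group, ← h]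
  group

namespace CentExt

variable {Γ : Type*} [Group Γ] (S : CentExt G F Γ)
include S

theorem cen {a b : Γ} (h : S.π a = S.π b) : ∃ z ∈ Subgroup.center Γ, a = b * z := by
  refine ⟨b⁻¹ * a, S.central ?_, by group⟩
  rw [MonoidHom.mem_ker, map_mul, map_inv, h, inv_mul_cancel]

theorem conj_congr {a b : Γ} (h : S.π a = S.π b) (g : Γ) : a * g * a⁻¹ = b * g * b⁻¹ := by
  obtain ⟨z, hz, rfl⟩ := S.cen h
  have hz' := Subgroup.mem_center_iff.1 hz g
  calc b * z * g * (b * z)⁻¹ = b * (z * g) * z⁻¹ * b⁻¹ := by group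
    _ = b * g * b⁻¹ := by rw [← hz']; group

theorem comm_congr {a a' b b' : Γ} (h : S.π a = S.π a') (h' : S.π b = S.π b') :
    ⁅a, b⁆ = ⁅a', b'⁆ := by
  have e1 : ⁅a, b⁆ = ⁅a', b⁆ := by
    rw [commutatorElement_def, commutatorElement_def, S.conj_congr h]
  have e2 : b * a'⁻¹ * b⁻¹ = b' * a'⁻¹ * b'⁻¹ := S.conj_congr h' _
  rw [e1, commutatorElement_def, commutatorElement_def,
    show a' * b * a'⁻¹ * b⁻¹ = a' * (b * a'⁻¹ * b⁻¹) by group, e2]
  group

/-- A lift of a root element. -/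
noncomputable def L (r : ℕ) (t : F) : Γ := (S.lifts r t).choose

theorem π_L (r : ℕ) (t : F) : S.π (S.L r t) = G.full.x r t := (S.lifts r t).choose_spec

/-- Elements satisfying (R1) and (R2) give a homomorphism from the group presented by them. -/
theorem exists_hom (xb : ℕ → F → Γ) (hπ : ∀ r < D.nroots, ∀ t, S.π (xb r t) = G.full.x r t)
    (hadd : ∀ r < D.nroots, ∀ t u, xb r t * xb r u = xb r (t + u))
    (hcomm : ∀ r < D.nroots, ∀ s < D.nroots, s ≠ r → s ≠ Tab.negR D r → ∀ t u,
      (xb s u)⁻¹ * (xb r t)⁻¹ * xb s u * xb r t =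
        ((rhsWord (T.commT r s) t u).map fun p => xb p.1 p.2).prod) :
    ∃ τ : D.SteinbergCover F →* Γ,
      ∀ r < D.nroots, ∀ t, S.π (τ (D.scGen F r t)) = G.full.x r t := by
  let f : Fin D.nroots × F → Γ := fun p => xb p.1.val p.2
  have hX : ∀ r < D.nroots, ∀ t, FreeGroup.lift f (D.stX r t) = xb r t := fun r hr t => by
    simp [ChevalleyDatum.stX, hr, f]
  have hrels : ∀ g ∈ D.steinbergRelsAB F, FreeGroup.lift f g = 1 := by
    rintro g (⟨r, t, u, hr, rfl⟩ | ⟨r, s, t, u, hr, hs, hne, hne', rfl⟩)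
    · rw [map_mul, map_mul, map_inv, hX r hr, hX r hr, hX r hr, hadd r hr, mul_inv_cancel]
    · rw [G.full.cert.neg_eq hr] at hne'
      rw [map_mul, map_mul, map_mul, map_mul, map_inv, map_inv, map_inv, hX r hr, hX s hs,
        hcomm r hr s hs hne hne', mul_inv_eq_one, ChevalleyDatum.stWord, map_list_prod,
        G.full.cert.commWord_eq hr hs, List.map_map]
      refine congrArg List.prod (List.map_congr_left fun p hp => ?_)
      simp only [rhsWord, List.mem_map] at hp
      obtain ⟨c, hc, rfl⟩ := hp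
      exact (hX _ (commT_lt G hr hs hc) _).symm
  refine ⟨PresentedGroup.toGroup hrels, fun r hr t => ?_⟩
  have : PresentedGroup.toGroup hrels (D.scGen F r t) = xb r t := hX r hr t
  rw [this, hπ r hr]

end CentExt

/-- The data of a stem extension of the Chevalley group as a central extension. -/
noncomputable def ofStem {Γ : Type*} [Group Γ] (σ : Γ →* D.group F)
    (hσ : Cfsg.IsStemExtension σ) : CentExt G F Γ where
  π := (D.group F).subtype.comp σ
  central g hg := hσ.2.1 (by
    rw [MonoidHom.mem_ker] at hg ⊢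
    exact Subtype.ext hg)
  lifts r t := by
    obtain ⟨g, hg⟩ := hσ.1 ⟨_, G.x_mem_group r t⟩
    exact ⟨g, congrArg Subtype.val hg⟩

/-- The kernel of a stem extension is the image of the kernel of the cover. -/
theorem stem_lift {Γ : Type*} [Group Γ] (σ : Γ →* D.group F) (hσ : Cfsg.IsStemExtension σ)
    (τ : D.SteinbergCover F →* Γ)
    (hτ : ∀ r < D.nroots, ∀ t, ((σ (τ (D.scGen F r t)) : D.group F) : GL D.Idx F) = G.full.x r t) :
    Function.Surjective τ ∧ σ.comp τ = G.scθ F ∧ σ.ker = (G.scθ F).ker.map τ := by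
  have hst : σ.comp τ = G.scθ F := by
    refine PresentedGroup.ext fun p => Subtype.ext ?_
    have e : PresentedGroup.of (rels := D.steinbergRelsAB F) p = D.scGen F p.1.val p.2 := by
      simp [ChevalleyDatum.scGen, ChevalleyDatum.stX]; rfl
    rw [MonoidHom.comp_apply, e, hτ _ p.1.isLt]
    exact (G.freeMap_stX p.1.val p.2).symm
  have hsurj : ∀ a : D.group F, ∃ x, G.scθ F x = a := by
    rintro ⟨g, hg⟩
    rw [← (G.scData (G.scθ F) fun r t hr => G.coe_scθ hr t).θ_range] at hg
    obtain ⟨e, he⟩ := hg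
    exact ⟨e, Subtype.ext he⟩
  have hdec : ∀ g, ∃ x, ∃ z ∈ σ.ker, g = τ x * z := fun g => by
    obtain ⟨x, hx⟩ := hsurj (σ g)
    refine ⟨x, (τ x)⁻¹ * g, ?_, by group⟩
    rw [MonoidHom.mem_ker, map_mul, map_inv, ← MonoidHom.comp_apply, hst, hx, inv_mul_cancel]
  have hcr : commutator Γ ≤ τ.range := by
    rw [commutator_def, Subgroup.commutator_le]
    intro a _ b _
    obtain ⟨x, z, hz, rfl⟩ := hdec a
    obtain ⟨y, w, hw, rfl⟩ := hdec b
    refine ⟨⁅x, y⁆, ?_⟩
    let S := ofStem (G := G) σ hσ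
    have h1 : ∀ (x : D.SteinbergCover F) (z : Γ), z ∈ σ.ker → S.π (τ x) = S.π (τ x * z) :=
      fun x z hz => by
        show (σ (τ x) : GL D.Idx F) = ((σ (τ x * z) : D.group F) : GL D.Idx F)
        rw [map_mul, MonoidHom.mem_ker.1 hz, mul_one]
    rw [map_commutatorElement]
    exact S.comm_congr (h1 x z hz) (h1 y w hw)
  have hτs : Function.Surjective τ := fun g => by
    obtain ⟨x, z, hz, rfl⟩ := hdec g
    obtain ⟨y, rfl⟩ := hcr (hσ.2.2 hz)
    exact ⟨x * y, map_mul _ _ _⟩
  refine ⟨hτs, hst, le_antisymm (fun g hg => ?_) ?_⟩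
  · obtain ⟨x, rfl⟩ := hτs g
    refine ⟨x, ?_, rfl⟩
    rw [SetLike.mem_coe, MonoidHom.mem_ker, ← hst]
    exact hg
  · rintro _ ⟨x, hx, rfl⟩
    rw [SetLike.mem_coe, MonoidHom.mem_ker, ← hst] at hx
    exact hx

end CfsgLib.ChevMult
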