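/-
The kernel of the cover for types with non-trivial centre, by an embedding in a larger type.
-/
import Cfsg.Agent.ChevMult.Base
import Cfsg.Agent.Chev.SteinbergIso
import Mathlib.GroupTheory.NoncommPiCoprod
import Mathlib.GroupTheory.SpecificGroups.Cyclic

set_option autoImplicit false

namespace CfsgLib.ChevMult

open Cfsg.Lie CfsgLib.Chev
open scoped MatrixGroups

variable {D D' : ChevalleyDatum} (T : Tab D) (T' : Tab D')

/-- The image of a root. -/
def ioAt (io : List ℕ) (r : ℕ) : ℕ := io.getD r 0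

/-- A map of roots respecting the commutator formulae. -/
def chkEmb (io : List ℕ) : Bool :=
  allBelow (fun r => Nat.blt (ioAt io r) D'.nroots &&
    Nat.beq (ioAt io (Tab.negR D r)) (Tab.negR D' (ioAt io r)) &&
    allBelow (fun s => Nat.beq s r || Nat.beq s (Tab.negR D r) ||
      (!(Nat.beq (ioAt io s) (ioAt io r)) && !(Nat.beq (ioAt io s) (Tab.negR D' (ioAt io r))) &&
        decide (T'.commT (ioAt io r) (ioAt io s) =
          (T.commT r s).map fun c => (ioAt io c.1, c.2)))) D.nroots) D.nroots &&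
  allBelow (fun j => Nat.beq (ioAt io (D.simple j)) (D'.simple j)) D.rank && Nat.ble D.rank D'.rank

/-- Certificates for the kernel of the torus map. -/
structure KerCert where
  /-- the order -/
  d : ℕ
  /-- the coordinate -/
  p : ℕ
  /-- exponents -/
  w : List ℤ
  /-- relations -/
  M : List (List ℤ)
  /-- the relation for `d` -/
  N : List ℤ
  /-- left inverse for the larger type -/
  M' : List (List ℤ)

/-- Combination of the rows of the Cartan matrix. -/
def comb {D : ChevalleyDatum} (T : Tab D) (m : List ℤ) (k : ℕ) : ℤ :=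
  ((List.range D.rank).map fun j => m.getD j 0 * T.cart k (D.simple j)).sum

/-- The certificate is correct. -/
def chkKer (C : KerCert) : Bool :=
  Nat.blt C.p D.rank && Nat.blt 0 C.d && decide (C.w.getD C.p 0 = 1) &&
  allBelow (fun i => allBelow (fun k => decide (comb T (C.M.getD i []) k =
    (if i = k then 1 else 0) - if k = C.p then C.w.getD i 0 else 0)) D.rank) D.rank &&
  allBelow (fun k => decide (comb T C.N k = if k = C.p then (C.d : ℤ) else 0)) D.rank &&
  allBelow (fun j => decide ((((List.range D.rank).map fun k =>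
    C.w.getD k 0 * T.cart k (D.simple j)).sum) % (C.d : ℤ) = 0)) D.rank &&
  allBelow (fun i => allBelow (fun k => decide (comb T' (C.M'.getD i []) k =
    if i = k then 1 else 0)) D.rank) D.rank

variable {T T'} {F : Type*} [Field F]

theorem prod_chi {D : ChevalleyDatum} (T : Tab D) (m : List ℤ) (c : Fin D.rank → Fˣ) :
    ∏ j : Fin D.rank, (T.chi (D.simple j) c) ^ m.getD j.val 0 =
      ∏ k : Fin D.rank, c k ^ comb T m k := by
  calc ∏ j : Fin D.rank, (T.chi (D.simple j) c) ^ m.getD j.val 0
      = ∏ j : Fin D.rank, ∏ k : Fin D.rank, (c k ^ T.cart k (D.simple j)) ^ m.getD j.val 0 :=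
        Finset.prod_congr rfl fun j _ => by
          simp only [Tab.chi, MonoidHom.coe_mk, OneHom.coe_mk, Finset.prod_zpow]
    _ = ∏ k : Fin D.rank, ∏ j : Fin D.rank, (c k ^ T.cart k (D.simple j)) ^ m.getD j.val 0 :=
        Finset.prod_comm
    _ = _ := by
        refine Finset.prod_congr rfl fun k _ => ?_
        rw [comb, Tab.list_sum_range (fun j => m.getD j 0 * T.cart k (D.simple j)),
          Tab.zpow_sum_eq_prod]
        exact Finset.prod_congr rfl fun j _ => by rw [← _root_.zpow_mul, mul_comm]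

variable (G : T.Good) (G' : T'.Good)

include G G' in
/-- The embedding gives a homomorphism of the cover. -/
theorem exists_emb {io : List ℕ} (h : chkEmb T T' io = true) :
    ∃ ψ : D.SteinbergCover F →* GL D'.Idx F,
      ∀ r < D.nroots, ∀ t, ψ (D.scGen F r t) = G'.full.x (ioAt io r) t := by
  simp only [chkEmb, Bool.and_eq_true, allBelow_iff, Nat.blt_eq, Bool.or_eq_true, Nat.beq_eq,
    Bool.not_eq_true', decide_eq_true_eq] at h
  obtain ⟨⟨h, -⟩, -⟩ := h
  let f : Fin D.nroots × F → GL D'.Idx F := fun p => G'.full.x (ioAt io p.1.val) p.2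
  have hX : ∀ r < D.nroots, ∀ t, FreeGroup.lift f (D.stX r t) = G'.full.x (ioAt io r) t :=
    fun r hr t => by simp [ChevalleyDatum.stX, hr, f]
  have hrels : ∀ g ∈ D.steinbergRelsAB F, FreeGroup.lift f g = 1 := by
    rintro g (⟨r, t, u, hr, rfl⟩ | ⟨r, s, t, u, hr, hs, hne, hne', rfl⟩)
    · rw [map_mul, map_mul, map_inv, hX r hr, hX r hr, hX r hr, G'.full.x_add, mul_inv_cancel]
    · rw [G.full.cert.neg_eq hr] at hne'
      obtain ⟨⟨hr', -⟩, hall⟩ := h r hr
      obtain (e | e) | ⟨⟨h1, h2⟩, h3⟩ := hall s hs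
      · exact absurd e hne
      · exact absurd e hne'
      have hs' := (h s hs).1.1
      have h1' : ioAt io s ≠ ioAt io r := fun e => by
        rw [e, Nat.beq_refl] at h1; exact Bool.noConfusion h1
      have h2' : ioAt io s ≠ Tab.negR D' (ioAt io r) := fun e => by
        rw [e, Nat.beq_refl] at h2; exact Bool.noConfusion h2
      have hx := G'.full.x_comm hr' hs' h1' h2' t u
      rw [G'.full.cert.commWord_eq hr' hs', h3] at hx
      rw [map_mul, map_mul, map_mul, map_mul, map_inv, map_inv, map_inv, hX r hr, hX s hs,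
        mul_inv_eq_one, ChevalleyDatum.stWord, map_list_prod, G.full.cert.commWord_eq hr hs,
        List.map_map, mul_assoc, hx]
      simp only [rhsWord, List.map_map]
      rw [show ((T.commT r s).map ((fun p => G'.full.x p.1 p.2) ∘
          (fun c => (c.1, (c.2.1 : F) * (-t) ^ c.2.2.1 * u ^ c.2.2.2)) ∘
          fun c => (ioAt io c.1, c.2))) =
        (T.commT r s).map ((⇑(FreeGroup.lift f) ∘ fun p => D.stX p.1 p.2) ∘
          fun c => (c.1, (c.2.1 : F) * (-t) ^ c.2.2.1 * u ^ c.2.2.2)) from
        List.map_congr_left fun c hc => (hX _ (commT_lt G hr hs hc) _).symm]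
      group
  exact ⟨PresentedGroup.toGroup hrels, fun r hr t => hX r hr t⟩

include G G' in
/-- The kernel of the cover is cyclic, of order `gcd (q - 1, d)`. -/
theorem scθ_ker_equiv [Finite F] {io : List ℕ} (hio : chkEmb T T' io = true) (hW : T.HasWit)
    (hD : D ∈ [chevG2, chevB2, chevD4, chevF4, chevE6, chevE7, chevE8])
    (C : KerCert) (hC : chkKer T T' C = true) :
    Nonempty (↥(G.scθ F).ker ≃* ↥(powMonoidHom C.d : Fˣ →* Fˣ).ker) := by
  obtain ⟨ψ, hψ⟩ := exists_emb (F := F) G G' hio
  simp only [chkEmb, Bool.and_eq_true, allBelow_iff, Nat.blt_eq, Nat.beq_eq, Nat.ble_eq] at hio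
  obtain ⟨⟨hroot, hsimp⟩, hrank⟩ := hio
  simp only [chkKer, Bool.and_eq_true, allBelow_iff, decide_eq_true_eq, Nat.blt_eq] at hC
  obtain ⟨⟨⟨⟨⟨⟨hp, hd⟩, hwp⟩, hM⟩, hN⟩, hw⟩, hM'⟩ := hC
  let S := G.scData (G.scθ F) (fun r t hr => G.coe_scθ hr t)
  obtain ⟨e, he⟩ := cover_iso (K := F) hD
  have hhb : ∀ (j : Fin D.rank) (t u : Fˣ),
      S.hb j (t : F) * S.hb j (u : F) = S.hb j ((t * u : Fˣ) : F) := fun j t u => by
    refine e.injective ?_
    have key : ∀ v : F, e (S.hb j v) =
        (G.stData (G.stθ F) fun r t hr => G.coe_stθ hr t).hb j v := fun v => by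
      simp [Tab.Good.StData.hb, Tab.Good.StData.nb, S, Tab.Good.scData, Tab.Good.stData, he]
    rw [map_mul, key, key, key, G.st_hb_mul]
  let φ : Fin D.rank → Fˣ →* D.SteinbergCover F := fun j =>
    MonoidHom.mk' (fun t => S.hb j (t : F)) (fun t u => (hhb j t u).symm)
  let H : (Fin D.rank → Fˣ) →* D.SteinbergCover F :=
    MonoidHom.noncommPiCoprod φ fun i j _ t u => S.hb_commute hW hhb i j t u
  have hH : ∀ j t, H (Pi.mulSingle j t) = S.hb j (t : F) := fun j t =>
    MonoidHom.noncommPiCoprod_mulSingle _ _ _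
  have hθ : ∀ c, S.θ (H c) = T.hT F c := fun c => by
    induction c using G.full.hT_induction with
    | h1 => simp
    | hm a b ha hb => simp [ha, hb]
    | hs i u => rw [hH, S.θ_hb, G.full.hT_single]
  let ext : (Fin D.rank → Fˣ) →* (Fin D'.rank → Fˣ) :=
    { toFun := fun c k => if h : k.val < D.rank then c ⟨k.val, h⟩ else 1
      map_one' := by funext k; by_cases h : k.val < D.rank <;> simp [h]
      map_mul' := fun a b => by funext k; by_cases h : k.val < D.rank <;> simp [h] }
  have hext : ∀ (i : Fin D.rank) (u : Fˣ), ext (Pi.mulSingle i u) =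
      Pi.mulSingle ⟨i.val, i.isLt.trans_le hrank⟩ u := fun i u => by
    funext k
    simp only [ext, MonoidHom.coe_mk, OneHom.coe_mk]
    by_cases h : k.val < D.rank
    · rw [dif_pos h]
      simp [Pi.mulSingle_apply, Fin.ext_iff]
    · rw [dif_neg h, Pi.mulSingle_eq_of_ne]
      intro e
      rw [e] at h
      exact h i.isLt
  have hψH : ∀ c, ψ (H c) = T'.hT F (ext c) := fun c => by
    induction c using G.full.hT_induction with
    | h1 => simp
    | hm a b ha hb => simp only [map_mul, ha, hb]
    | hs i u =>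
      have hs := G.full.simple_lt i.isLt
      have hn := Tab.Cert.negR_lt (D := D) hs
      rw [hH, hext, G'.full.hT_single]
      simp only [Tab.Good.StData.hb, Tab.Good.StData.nb, S, Tab.Good.scData, map_mul, hψ _ hs,
        hψ _ hn, hsimp i i.isLt, (hroot _ hs).1.2, Tab.Full.hr, Tab.Full.nr]
  have hinj : Function.Injective H := by
    rw [injective_iff_map_eq_one]
    intro c hc
    have h1 : T'.hT F (ext c) = 1 := by rw [← hψH, hc, map_one]
    rw [G'.full.hT_eq_one_iff] at h1
    funext i
    have e1 := prod_chi T' (C.M'.getD i []) (ext c)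
    rw [Finset.prod_eq_one fun j _ => by rw [h1 j j.isLt, _root_.one_zpow],
      Finset.prod_eq_single (⟨i.val, i.isLt.trans_le hrank⟩ : Fin D'.rank)] at e1
    · rw [hM' i i.isLt i i.isLt, if_pos rfl, _root_.zpow_one] at e1
      simpa [ext] using e1.symm
    · intro k _ hk
      by_cases h : k.val < D.rank
      · rw [hM' i i.isLt k h, if_neg fun e => hk (Fin.ext e.symm), _root_.zpow_zero]
      · simp [ext, h]
    · simp
  have hker : S.θ.ker = (T.hT F).ker.map H := by
    refine le_antisymm (fun g hg => ?_) ?_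
    · have hle : S.HB ≤ H.range := by
        rw [Tab.Good.StData.HB, Subgroup.closure_le]
        rintro _ ⟨j, t, rfl⟩
        exact ⟨_, hH j t⟩
      obtain ⟨c, rfl⟩ := hle (S.ker_le_HB hW hg)
      refine ⟨c, ?_, rfl⟩
      rw [SetLike.mem_coe, MonoidHom.mem_ker, ← hθ]
      exact hg
    · rintro _ ⟨c, hc, rfl⟩
      rw [MonoidHom.mem_ker, hθ]
      exact hc
  have hkk : (G.scθ F).ker = S.θ.ker := by
    ext g
    simp [S, Tab.Good.scData, MonoidHom.mem_ker, OneMemClass.coe_eq_one]
  let f : (powMonoidHom C.d : Fˣ →* Fˣ).ker →* (T.hT F).ker :=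
    { toFun := fun a => ⟨fun k => a.1 ^ C.w.getD k.val 0, by
        rw [MonoidHom.mem_ker, G.full.hT_eq_one_iff]
        intro j hj
        obtain ⟨z, hz⟩ := Int.dvd_of_emod_eq_zero (hw j hj)
        have ha : a.1 ^ C.d = 1 := MonoidHom.mem_ker.1 a.2
        simp only [Tab.chi, MonoidHom.coe_mk, OneHom.coe_mk, ← _root_.zpow_mul]
        rw [← Tab.zpow_sum_eq_prod,
          ← Tab.list_sum_range (fun k => C.w.getD k 0 * T.cart k (D.simple j)), hz,
          _root_.zpow_mul, zpow_natCast, ha, _root_.one_zpow]⟩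
      map_one' := Subtype.ext (funext fun k => _root_.one_zpow _)
      map_mul' := fun a b => Subtype.ext (funext fun k => mul_zpow a.1 b.1 _) }
  have fbij : Function.Bijective f := by
    refine ⟨fun a b h => ?_, fun c => ?_⟩
    · have e1 := congrFun (congrArg Subtype.val h) ⟨C.p, hp⟩
      simp only [f, MonoidHom.coe_mk, OneHom.coe_mk, hwp, _root_.zpow_one] at e1
      exact Subtype.ext e1
    · have hc := (G.full.hT_eq_one_iff c.1).1 (MonoidHom.mem_ker.1 c.2)
      have hone : ∀ m : List ℤ, ∏ k : Fin D.rank, c.1 k ^ comb T m k = 1 := fun m => by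
        rw [← prod_chi]
        exact Finset.prod_eq_one fun j _ => by rw [hc j j.isLt, _root_.one_zpow]
      have hpd : c.1 ⟨C.p, hp⟩ ^ C.d = 1 := by
        have := hone C.N
        rw [Finset.prod_eq_single (⟨C.p, hp⟩ : Fin D.rank)] at this
        · rwa [hN C.p hp, if_pos rfl, zpow_natCast] at this
        · intro k _ hk
          rw [hN k k.isLt, if_neg fun e => hk (Fin.ext e), _root_.zpow_zero]
        · simp
      refine ⟨⟨c.1 ⟨C.p, hp⟩, MonoidHom.mem_ker.2 hpd⟩, Subtype.ext (funext fun i => ?_)⟩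
      have := hone (C.M.getD i [])
      simp only [fun k : Fin D.rank => hM i i.isLt k k.isLt, _root_.zpow_sub,
        Finset.prod_mul_distrib, Finset.prod_inv_distrib] at this
      rw [Finset.prod_eq_single i, Finset.prod_eq_single (⟨C.p, hp⟩ : Fin D.rank)] at this
      · rw [if_pos rfl, if_pos rfl, _root_.zpow_one, mul_inv_eq_one] at this
        exact this.symm
      · exact fun k _ hk => by rw [if_neg fun e => hk (Fin.ext e), _root_.zpow_zero]
      · simp
      · exact fun k _ hk => by rw [if_neg fun e => hk (Fin.ext e.symm), _root_.zpow_zero]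
      · simp
  exact ⟨((MulEquiv.subgroupCongr (hkk.trans hker)).trans
    ((T.hT F).ker.equivMapOfInjective H hinj).symm).trans (MulEquiv.ofBijective f fbij).symm⟩

end CfsgLib.ChevMult
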