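/-
From lifting Steinberg's relations to trivial multipliers.
-/
import Cfsg.Agent.ChevMult.Base
import Cfsg.Agent.Chev.SteinbergIso
import Cfsg.Agent.FGSB.StemExt

set_option autoImplicit false

namespace CfsgLib.ChevMult

open Cfsg.Lie CfsgLib.Chev

universe u

variable {D : ChevalleyDatum} {T : Tab D} (G : T.Good) {F : Type u} [Field F]

/-- For unimodular types the cover maps isomorphically. -/
theorem scθ_ker_eq_bot [Finite F]
    (hD : D ∈ [chevG2, chevB2, chevD4, chevF4, chevE6, chevE7, chevE8]) (hW : T.HasWit)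
    {M : List (List ℤ)} (hM : T.chkUni M = true) : (G.scθ F).ker = ⊥ := by
  obtain ⟨e, he⟩ := cover_iso (K := F) hD
  let S := G.stData (G.stθ F) (fun r t hr => G.coe_stθ hr t)
  have hk : S.θ.ker = ⊥ :=
    Tab.Good.StData.ker_eq_bot S hW (G.st_hb_mul _) (G.hT_injective hM)
  have hcomp : (G.stθ F).comp e.toMonoidHom = G.scθ F := by
    refine PresentedGroup.ext fun p => Subtype.ext ?_
    have e1 : PresentedGroup.of (rels := D.steinbergRelsAB F) p = D.scGen F p.1.val p.2 := by
      simp [ChevalleyDatum.scGen, ChevalleyDatum.stX]; rfl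
    rw [e1, MonoidHom.comp_apply, MulEquiv.coe_toMonoidHom, he]
    exact (G.freeMap_stX p.1.val p.2).trans (G.freeMap_stX p.1.val p.2).symm
  refine (Subgroup.eq_bot_iff_forall _).2 fun x hx => ?_
  rw [← hcomp, MonoidHom.mem_ker, MonoidHom.comp_apply] at hx
  have : e x ∈ S.θ.ker := by
    rw [MonoidHom.mem_ker]
    exact congrArg Subtype.val hx
  rw [hk, Subgroup.mem_bot] at this
  exact e.injective (this.trans e.map_one.symm)

include G in
/-- Trivial multiplier. -/
theorem trivial_of_lift [Fintype F]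
    (hD : D ∈ [chevG2, chevB2, chevD4, chevF4, chevE6, chevE7, chevE8]) (hW : T.HasWit)
    {M : List (List ℤ)} (hM : T.chkUni M = true)
    (hlift : ∀ (Γ : Type u) [Group Γ] (S : CentExt G F Γ), ∃ τ : D.SteinbergCover F →* Γ,
      ∀ r < D.nroots, ∀ t, S.π (τ (D.scGen F r t)) = G.full.x r t) :
    Cfsg.HasCyclicSchurMultiplier ↥(D.group F) 1 := by
  refine CfsgLib.StemExt.hasTrivialSchurMultiplier fun Γ _ _ σ hσ => ?_
  obtain ⟨τ, hτ⟩ := hlift Γ (ofStem σ hσ)
  rw [(stem_lift (G := G) σ hσ τ hτ).2.2, scθ_ker_eq_bot G hD hW hM, Subgroup.map_bot]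

end CfsgLib.ChevMult
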