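/-
The cover as a stem extension; multipliers of the presented groups.
-/
import Cfsg.Agent.ChevMult.Finish
import Cfsg.Agent.ChevMult.Center
import Cfsg.Agent.Chev.SteinbergPerf
import Mathlib.FieldTheory.Finite.Basic

set_option autoImplicit false

namespace CfsgLib.ChevMult

open Cfsg.Lie CfsgLib.Chev
open scoped commutatorElement

universe u

variable {D : ChevalleyDatum} {T : Tab D} (G : T.Good) {F : Type u} [Field F]

theorem scθ_surjective : Function.Surjective (G.scθ F) := by
  rintro ⟨g, hg⟩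
  rw [← (G.scData (G.scθ F) fun r t hr => G.coe_scθ hr t).θ_range] at hg
  obtain ⟨e, he⟩ := hg
  exact ⟨e, Subtype.ext he⟩

theorem scθ_ker_le_center (hW : T.HasWit) :
    (G.scθ F).ker ≤ Subgroup.center (D.SteinbergCover F) := fun _ hg =>
  (G.scData (G.scθ F) fun r t hr => G.coe_scθ hr t).ker_le_center hW
    (congrArg Subtype.val (MonoidHom.mem_ker.1 hg))

theorem isStemExtension_scθ (hW : T.HasWit) (hperf : commutator (D.SteinbergCover F) = ⊤) :
    Cfsg.IsStemExtension (G.scθ F) :=
  ⟨scθ_surjective G, scθ_ker_le_center G hW, by rw [hperf]; exact le_top⟩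

theorem finite_cover [Finite F] (hk : Finite (G.scθ F).ker) : Finite (D.SteinbergCover F) := by
  have : Finite (D.SteinbergCover F ⧸ (G.scθ F).ker) :=
    Finite.of_equiv _ (QuotientGroup.quotientKerEquivOfSurjective _ (scθ_surjective G)).toEquiv.symm
  exact Finite.of_subgroup_quotient (G.scθ F).ker

include G in
/-- A cyclic multiplier. -/
theorem cyclic_of_lift [Fintype F] (hW : T.HasWit) (hperf : commutator (D.SteinbergCover F) = ⊤)
    {d : ℕ} (hd : 0 < d) (e : ↥(G.scθ F).ker ≃* ↥(powMonoidHom d : Fˣ →* Fˣ).ker)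
    (hlift : ∀ (Γ : Type u) [Group Γ] (S : CentExt G F Γ), ∃ τ : D.SteinbergCover F →* Γ,
      ∀ r < D.nroots, ∀ t, S.π (τ (D.scGen F r t)) = G.full.x r t) :
    Cfsg.HasCyclicSchurMultiplier ↥(D.group F) (Nat.gcd d (Fintype.card F - 1)) := by
  have : Finite (G.scθ F).ker := Finite.of_equiv _ e.toEquiv.symm
  have := finite_cover G this
  have hcyc : IsCyclic (G.scθ F).ker := isCyclic_of_surjective e.symm.toMonoidHom e.symm.surjective
  have hcard : Nat.card (G.scθ F).ker = Nat.gcd d (Fintype.card F - 1) := by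
    rw [Nat.card_congr e.toEquiv, IsCyclic.card_powMonoidHom_ker, Nat.card_units,
      Nat.card_eq_fintype_card, Nat.gcd_comm]
  have : NeZero (Nat.gcd d (Fintype.card F - 1)) := ⟨(Nat.gcd_pos_of_pos_left _ hd).ne'⟩
  refine CfsgLib.StemExt.hasCyclicSchurMultiplier (G.scθ F) (isStemExtension_scθ G hW hperf) hcyc
    hcard fun Γ _ _ σ hσ => ?_
  obtain ⟨τ, hτ⟩ := hlift Γ (ofStem σ hσ)
  obtain ⟨-, -, hk⟩ := stem_lift (G := G) σ hσ τ hτ
  rw [hk]
  exact ⟨isCyclic_of_surjective (τ.subgroupMap (G.scθ F).ker) (τ.subgroupMap_surjective _),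
    hcard ▸ Subgroup.card_map_dvd _ _⟩

include G in
/-- The presented group has trivial multiplier. -/
theorem st_trivial_of_lift [Fintype F]
    (hD : D ∈ [chevG2, chevB2, chevD4, chevF4, chevE6, chevE7, chevE8]) (hW : T.HasWit)
    (hperf : commutator (D.SteinbergCover F) = ⊤) (hfin : Finite (D.SteinbergCover F))
    (hlift : ∀ (Γ : Type u) [Group Γ] (S : CentExt G F Γ), ∃ τ : D.SteinbergCover F →* Γ,
      ∀ r < D.nroots, ∀ t, S.π (τ (D.scGen F r t)) = G.full.x r t) :
    Cfsg.HasCyclicSchurMultiplier (D.SteinbergGroup F) 1 := by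
  obtain ⟨e, he⟩ := cover_iso (K := F) hD
  have : Finite (D.SteinbergGroup F) := Finite.of_equiv _ e.toEquiv
  have hcomp : (G.stθ F).comp e.toMonoidHom = G.scθ F := by
    refine PresentedGroup.ext fun p => Subtype.ext ?_
    have e1 : PresentedGroup.of (rels := D.steinbergRelsAB F) p = D.scGen F p.1.val p.2 := by
      simp [ChevalleyDatum.scGen, ChevalleyDatum.stX]; rfl
    rw [e1, MonoidHom.comp_apply, MulEquiv.coe_toMonoidHom, he]
    exact (G.freeMap_stX p.1.val p.2).trans (G.freeMap_stX p.1.val p.2).symm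
  have hperf' : commutator (D.SteinbergGroup F) = ⊤ := by
    rw [eq_top_iff]
    rintro g -
    obtain ⟨x, rfl⟩ := e.surjective g
    have : x ∈ commutator (D.SteinbergCover F) := hperf ▸ Subgroup.mem_top x
    have := Subgroup.mem_map_of_mem e.toMonoidHom this
    rw [commutator_def, Subgroup.map_commutator] at this
    exact Subgroup.commutator_mono le_top le_top this
  refine CfsgLib.StemExt.hasTrivialSchurMultiplier fun Γ _ _ σ hσ => ?_
  have hperfΓ : commutator Γ = ⊤ := by
    rw [eq_top_iff]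
    rintro g -
    have : σ g ∈ (commutator Γ).map σ := by
      rw [commutator_def, Subgroup.map_commutator, ← MonoidHom.range_eq_map,
        MonoidHom.range_eq_top.2 hσ.1, ← commutator_def, hperf']
      exact Subgroup.mem_top _
    obtain ⟨h, hh, e1⟩ := this
    have h1 : h⁻¹ * g ∈ σ.ker := by
      rw [MonoidHom.mem_ker, map_mul, map_inv, e1, inv_mul_cancel]
    simpa using mul_mem hh (hσ.2.2 h1)
  have hst : ∀ x, G.stθ F x = G.scθ F (e.symm x) := fun x => by
    rw [← hcomp, MonoidHom.comp_apply, MulEquiv.coe_toMonoidHom, e.apply_symm_apply]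
  have hsurj : Function.Surjective ((G.stθ F).comp σ) := by
    intro a
    obtain ⟨x, rfl⟩ := scθ_surjective G a
    obtain ⟨g, hg⟩ := hσ.1 (e x)
    exact ⟨g, by rw [MonoidHom.comp_apply, hg, hst, e.symm_apply_apply]⟩
  have hstem : Cfsg.IsStemExtension ((G.stθ F).comp σ) := by
    refine ⟨hsurj, fun k hk => ?_, by rw [hperfΓ]; exact le_top⟩
    rw [MonoidHom.mem_ker, MonoidHom.comp_apply, hst] at hk
    have hk' := Subgroup.mem_center_iff.1 (scθ_ker_le_center G hW (MonoidHom.mem_ker.2 hk))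
    have hc : ∀ g, ⁅k, g⁆ ∈ σ.ker := fun g => by
      rw [MonoidHom.mem_ker, map_commutatorElement, commutatorElement_eq_one_iff_mul_comm]
      refine e.symm.injective ?_
      rw [map_mul, map_mul, hk']
    have hcz : ∀ g, ⁅k, g⁆ ∈ Subgroup.center Γ := fun g => hσ.2.1 (hc g)
    let φ : Γ →* Subgroup.center Γ := MonoidHom.mk' (fun g => ⟨⁅k, g⁆, hcz g⟩) fun a b => by
      refine Subtype.ext ?_
      show ⁅k, a * b⁆ = ⁅k, a⁆ * ⁅k, b⁆
      rw [show ⁅k, a * b⁆ = ⁅k, a⁆ * (a * ⁅k, b⁆ * a⁻¹) by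
        simp only [commutatorElement_def]; group, Subgroup.mem_center_iff.1 (hcz b) a,
        mul_inv_cancel_right]
    rw [Subgroup.mem_center_iff]
    intro g
    have hle : commutator Γ ≤ φ.ker := by
      rw [commutator_def, Subgroup.commutator_le]
      intro a _ b _
      rw [MonoidHom.mem_ker, map_commutatorElement, commutatorElement_eq_one_iff_mul_comm]
      exact Subtype.ext (Subgroup.mem_center_iff.1 (φ b).2 (φ a).1)
    rw [hperfΓ] at hle
    have hg : g ∈ φ.ker := hle (Subgroup.mem_top g)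
    have := congrArg Subtype.val (MonoidHom.mem_ker.1 hg)
    simp only [φ, MonoidHom.mk'_apply, OneMemClass.coe_one,
      commutatorElement_eq_one_iff_mul_comm] at this
    exact this.symm
  obtain ⟨τ, hτ⟩ := hlift Γ (ofStem _ hstem)
  obtain ⟨hτs, -, -⟩ := stem_lift (G := G) _ hstem τ hτ
  have h1 : Nat.card Γ ≤ Nat.card (D.SteinbergGroup F) := by
    rw [← Nat.card_congr e.toEquiv]
    exact Nat.card_le_card_of_surjective τ hτs
  have h2 := Nat.card_le_card_of_surjective σ hσ.1
  have hb : Function.Bijective σ :=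
    (Nat.bijective_iff_surjective_and_card σ).2 ⟨hσ.1, le_antisymm h1 h2⟩
  exact (MonoidHom.ker_eq_bot_iff σ).2 hb.1

end CfsgLib.ChevMult
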