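/-
Lifting Steinberg's relations to central extensions by means of the torus.
-/
import Cfsg.Agent.ChevMult.Base

set_option autoImplicit false

namespace CfsgLib.ChevMult

open Cfsg.Lie CfsgLib.Chev
open scoped commutatorElement MatrixGroups

variable {D : ChevalleyDatum} (T : Tab D)

/-- The two roots can be separated by the torus. -/
def Kill (F : Type*) [Field F] (r s : ℕ) : Prop :=
  ∃ d : Fin D.rank → Fˣ, (T.chi r d = 1 ∧ T.chi s d ≠ 1) ∨ (T.chi s d = 1 ∧ T.chi r d ≠ 1)

/-- The roots of the terms of the commutator formula. -/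
def terms (r s : ℕ) : List ℕ := (T.commT r s).map Prod.fst

/-- The pair `(a, b)` has fewer terms than `n`, all among `A`. -/
def chkSub (n : ℕ) (A : List ℕ) (a b : ℕ) : Bool :=
  Nat.beq b a || (!(Nat.beq b (Tab.negR D a)) && Nat.blt (T.commT a b).length n &&
    (terms T a b).all fun c => A.elem c)

/-- The terms of `(r, s)` form a closed set in a positive system, normalised by `r` and `s`. -/
def chkTerms (r s : ℕ) (L : List ℕ) : Bool :=
  let A := terms T r s
  L.all (fun i => Nat.blt i D.rank) &&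
  A.all fun c => Nat.blt c D.nroots && Nat.ble D.nroots (Nat.mul 2 (T.wordT L c)) &&
    chkSub T (T.commT r s).length A r c && chkSub T (T.commT r s).length A s c &&
    A.all fun c' => chkSub T (T.commT r s).length A c c'

variable {T} {G : T.Good} {F : Type*} [Field F]

theorem x_pair_commute {r s : ℕ} (hr : r < D.nroots) (hs : s < D.nroots) (hne : s ≠ r)
    (hn : s ≠ Tab.negR D r) (h : T.commT r s = []) (t u : F) :
    Commute (G.full.x r t) (G.full.x s u) := by
  have e := x_commutator (G := G) hr hs hne hn t u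
  rw [h] at e
  simp only [rhsWord, List.map_nil, List.prod_nil, commutatorElement_eq_one_iff_commute] at e
  exact e.symm

theorem kill_trivial {Γ : Type*} [Group Γ] {r s : ℕ} (hk : Kill T F r s) {f : F → F → Γ}
    (hl : ∀ a b c, f (a + b) c = f a c * f b c) (hrr : ∀ a b c, f a (b + c) = f a b * f a c)
    (hi : ∀ (d : Fin D.rank → Fˣ) (t u : F), f ((T.chi r d : F) * t) ((T.chi s d : F) * u) = f t u) (t u : F) :
    f t u = 1 := by
  obtain ⟨d, ⟨h1, h2⟩ | ⟨h1, h2⟩⟩ := hk
  · have ha : ((T.chi s d : Fˣ) : F) - 1 ≠ 0 := by rwa [sub_ne_zero, Ne, Units.val_eq_one]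
    have e := hi d t (u / (((T.chi s d : Fˣ) : F) - 1))
    rw [h1, Units.val_one, one_mul,
      show ((T.chi s d : Fˣ) : F) * (u / (((T.chi s d : Fˣ) : F) - 1)) =
        u + u / (((T.chi s d : Fˣ) : F) - 1) by field_simp; ring, hrr] at e
    exact mul_eq_right.1 e
  · have ha : ((T.chi r d : Fˣ) : F) - 1 ≠ 0 := by rwa [sub_ne_zero, Ne, Units.val_eq_one]
    have e := hi d (t / (((T.chi r d : Fˣ) : F) - 1)) u
    rw [h1, Units.val_one, one_mul,
      show ((T.chi r d : Fˣ) : F) * (t / (((T.chi r d : Fˣ) : F) - 1)) =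
        t + t / (((T.chi r d : Fˣ) : F) - 1) by field_simp; ring, hl] at e
    exact mul_eq_right.1 e

open scoped Classical in
/-- A torus element moving the root. -/
noncomputable def mover (T : Tab D) (F : Type*) [Field F] (r : ℕ) : Fin D.rank → Fˣ :=
  if h : ∃ c : Fin D.rank → Fˣ, T.chi r c ≠ 1 then h.choose else 1

namespace CentExt

variable {Γ : Type*} [Group Γ] (S : CentExt G F Γ)
include S

theorem exists_H (c : Fin D.rank → Fˣ) : ∃ g, S.π g = T.hT F c := by
  have hx : ∀ r (t : F), G.full.x r t ∈ S.π.range := fun r t => S.lifts r t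
  have : T.hT F c ∈ S.π.range := by
    induction c using G.full.hT_induction with
    | h1 => rw [map_one]; exact one_mem _
    | hm a b ha hb => rw [map_mul]; exact mul_mem ha hb
    | hs i u =>
      rw [G.full.hT_single]
      exact mul_mem (mul_mem (mul_mem (hx _ _) (hx _ _)) (hx _ _))
        (mul_mem (mul_mem (hx _ _) (hx _ _)) (hx _ _))
  exact this

/-- A lift of a torus element. -/
noncomputable def H (c : Fin D.rank → Fˣ) : Γ := (S.exists_H c).choose

theorem π_H (c : Fin D.rank → Fˣ) : S.π (S.H c) = T.hT F c := (S.exists_H c).choose_spec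

theorem π_conj_H (c : Fin D.rank → Fˣ) {r : ℕ} (hr : r < D.nroots) {g : Γ} {t : F}
    (hg : S.π g = G.full.x r t) :
    S.π (S.H c * g * (S.H c)⁻¹) = G.full.x r ((T.chi r c : F) * t) := by
  rw [map_mul, map_mul, map_inv, S.π_H, hg, G.full.hT_conj hr]

theorem central_fix {g : Γ} (hg : S.π g = 1) (h : Γ) : h * g * h⁻¹ = g := by
  rw [Subgroup.mem_center_iff.1 (S.central (MonoidHom.mem_ker.2 hg)) h, mul_inv_cancel_right]

/-- Lifts of a separated commuting pair commute. -/
theorem commute_of_kill {r s : ℕ} (hr : r < D.nroots) (hs : s < D.nroots) (hne : s ≠ r)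
    (hn : s ≠ Tab.negR D r) (hc : T.commT r s = []) (hk : Kill T F r s) {t u : F} {g h : Γ}
    (hg : S.π g = G.full.x r t) (hh : S.π h = G.full.x s u) : Commute g h := by
  set f : F → F → Γ := fun t u => ⁅S.L r t, S.L s u⁆ with hf
  have h1 : ∀ t u, S.π (f t u) = 1 := fun t u => by
    rw [hf, map_commutatorElement, S.π_L, S.π_L,
      commutatorElement_eq_one_iff_commute.2 (x_pair_commute (G := G) hr hs hne hn hc t u)]
  have key := kill_trivial (f := f) hk
    (fun a b c => by
      show ⁅S.L r (a + b), S.L s c⁆ = ⁅S.L r a, S.L s c⁆ * ⁅S.L r b, S.L s c⁆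
      rw [S.comm_congr (a' := S.L r a * S.L r b) (by rw [map_mul, S.π_L, S.π_L, S.π_L, G.full.x_add])
        (rfl : S.π (S.L s c) = _),
        show ⁅S.L r a * S.L r b, S.L s c⁆ = S.L r a * f b c * (S.L r a)⁻¹ * f a c by
          simp only [hf, commutatorElement_def]; group, S.central_fix (h1 b c)]
      exact (Subgroup.mem_center_iff.1 (S.central (MonoidHom.mem_ker.2 (h1 b c))) _).symm)
    (fun a b c => by
      show ⁅S.L r a, S.L s (b + c)⁆ = ⁅S.L r a, S.L s b⁆ * ⁅S.L r a, S.L s c⁆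
      rw [S.comm_congr (rfl : S.π (S.L r a) = _) (b' := S.L s b * S.L s c)
        (by rw [map_mul, S.π_L, S.π_L, S.π_L, G.full.x_add]),
        show ⁅S.L r a, S.L s b * S.L s c⁆ = f a b * (S.L s b * f a c * (S.L s b)⁻¹) by
          simp only [hf, commutatorElement_def]; group, S.central_fix (h1 a c)])
    (fun d a b => by
      show ⁅S.L r _, S.L s _⁆ = f a b
      rw [S.comm_congr (a' := S.H d * S.L r a * (S.H d)⁻¹) (b' := S.H d * S.L s b * (S.H d)⁻¹)
        (by rw [S.π_conj_H d hr (S.π_L r a), S.π_L]) (by rw [S.π_conj_H d hs (S.π_L s b), S.π_L]),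
        ← conjugate_commutatorElement]
      exact S.central_fix (h1 a b) _) t u
  rw [← commutatorElement_eq_one_iff_commute,
    S.comm_congr (hg.trans (S.π_L r t).symm) (hh.trans (S.π_L s u).symm)]
  exact key

/-- The hypotheses of the lifting. -/
structure TorHyp : Prop where
  mv : ∀ r < D.nroots, ∃ c : Fin D.rank → Fˣ, T.chi r c ≠ 1
  ab : ∀ r < D.nroots, ∀ {t u : F} {g h : Γ},
    S.π g = G.full.x r t → S.π h = G.full.x r u → Commute g h
  com : ∀ r < D.nroots, ∀ s < D.nroots, s ≠ r → s ≠ Tab.negR D r → T.commT r s = [] →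
    ∀ {t u : F} {g h : Γ}, S.π g = G.full.x r t → S.π h = G.full.x s u → Commute g h
  kill : ∀ r < D.nroots, ∀ s < D.nroots, s ≠ r → s ≠ Tab.negR D r → T.commT r s ≠ [] →
    Kill T F r s ∧ ∃ L, chkTerms T r s L = true

/-- The root element of `r` in the extension. -/
noncomputable def xt (r : ℕ) (t : F) : Γ :=
  ⁅S.H (mover T F r), S.L r (t / (((T.chi r (mover T F r) : Fˣ) : F) - 1))⁆

/-- A mover and commuting lifts, for one root. -/
structure MvAb (r : ℕ) : Prop where
  mv : ∃ c : Fin D.rank → Fˣ, T.chi r c ≠ 1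
  ab : ∀ {t u : F} {g h : Γ}, S.π g = G.full.x r t → S.π h = G.full.x r u → Commute g h

theorem mvAb_of (hS : S.TorHyp) {r : ℕ} (hr : r < D.nroots) : S.MvAb r :=
  ⟨hS.mv r hr, hS.ab r hr⟩

section

variable {S} {r : ℕ} (hS : S.MvAb r)
include hS

theorem mover_ne : ((T.chi r (mover T F r) : Fˣ) : F) - 1 ≠ 0 := by
  have h := hS.mv
  rw [mover, dif_pos h, sub_ne_zero, Ne, Units.val_eq_one]
  exact h.choose_spec

theorem π_xt (hr : r < D.nroots) (t : F) : S.π (S.xt r t) = G.full.x r t := by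
  have := mover_ne hS
  rw [xt, map_commutatorElement, S.π_H, S.π_L, commutatorElement_def, G.full.hT_conj hr,
    G.full.x_inv, G.full.x_add]
  congr 1
  field_simp
  ring

theorem xt_add (hr : r < D.nroots) (t u : F) :
    S.xt r t * S.xt r u = S.xt r (t + u) := by
  rw [xt, xt, xt, add_div]
  set h := S.H (mover T F r)
  set a := ((T.chi r (mover T F r) : Fˣ) : F) - 1
  have hc : Commute (S.L r (t / a)) ⁅h, S.L r (u / a)⁆ := hS.ab (S.π_L _ _) (π_xt hS hr u)
  rw [S.comm_congr (rfl : S.π h = _) (b := S.L r (t / a + u / a))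
    (b' := S.L r (t / a) * S.L r (u / a))
    (by rw [map_mul, S.π_L, S.π_L, S.π_L, G.full.x_add]),
    show ⁅h, S.L r (t / a) * S.L r (u / a)⁆ =
      ⁅h, S.L r (t / a)⁆ * (S.L r (t / a) * ⁅h, S.L r (u / a)⁆ * (S.L r (t / a))⁻¹) by
        simp only [commutatorElement_def]; group, hc.eq, mul_inv_cancel_right]

theorem xt_zero (hr : r < D.nroots) : S.xt r 0 = 1 := by
  have := xt_add hS hr 0 0
  rwa [add_zero, mul_eq_left] at this

theorem xt_inv (hr : r < D.nroots) (t : F) : (S.xt r t)⁻¹ = S.xt r (-t) := by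
  rw [inv_eq_iff_mul_eq_one, xt_add hS hr, add_neg_cancel, xt_zero hS hr]

theorem xt_conj (hr : r < D.nroots) (d : Fin D.rank → Fˣ) (t : F) :
    S.H d * S.xt r t * (S.H d)⁻¹ = S.xt r ((T.chi r d : F) * t) := by
  rw [xt, xt, conjugate_commutatorElement]
  refine S.comm_congr ?_ ?_
  · rw [map_mul, map_mul, map_inv, S.π_H, S.π_H, ← map_inv, ← map_mul, ← map_mul,
      mul_comm d, mul_inv_cancel_right]
  · rw [S.π_conj_H d hr (S.π_L _ _), S.π_L, mul_div_assoc]

end

/-- A family of lifts of the root elements, additive and compatible with the torus. -/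
structure Fam where
  /-- the elements -/
  x : ℕ → F → Γ
  π_x : ∀ r < D.nroots, ∀ t, S.π (x r t) = G.full.x r t
  add : ∀ r < D.nroots, ∀ t u, x r t * x r u = x r (t + u)
  conj : ∀ r < D.nroots, ∀ (d : Fin D.rank → Fˣ) (t : F),
    S.H d * x r t * (S.H d)⁻¹ = x r ((T.chi r d : F) * t)

/-- The family given by movers. -/
noncomputable def torFam (hS : S.TorHyp) : S.Fam where
  x := S.xt
  π_x _ hr := π_xt (S.mvAb_of hS hr) hr
  add _ hr := xt_add (S.mvAb_of hS hr) hr
  conj _ hr := xt_conj (S.mvAb_of hS hr) hr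

namespace Fam

variable {S} (X : S.Fam)
include X

theorem x_zero {r : ℕ} (hr : r < D.nroots) : X.x r 0 = 1 := by
  have := X.add r hr 0 0
  rwa [add_zero, mul_eq_left] at this

theorem x_inv {r : ℕ} (hr : r < D.nroots) (t : F) : (X.x r t)⁻¹ = X.x r (-t) := by
  rw [inv_eq_iff_mul_eq_one, X.add r hr, add_neg_cancel, X.x_zero hr]

/-- The left side of (R2). -/
noncomputable def lhs (r s : ℕ) (t u : F) : Γ :=
  (X.x s u)⁻¹ * (X.x r t)⁻¹ * X.x s u * X.x r t

/-- The right side of (R2). -/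
noncomputable def rhs (r s : ℕ) (t u : F) : Γ :=
  ((rhsWord (T.commT r s) t u).map fun p => X.x p.1 p.2).prod

/-- (R2) for a pair. -/
def R2 (r s : ℕ) : Prop := ∀ t u : F, X.lhs r s t u = X.rhs r s t u

theorem π_lhs {r s : ℕ} (hr : r < D.nroots) (hs : s < D.nroots) (hne : s ≠ r)
    (hn : s ≠ Tab.negR D r) (t u : F) : S.π (X.lhs r s t u) = S.π (X.rhs r s t u) := by
  have h := G.full.x_comm hr hs hne hn t u
  rw [G.full.cert.commWord_eq hr hs] at h
  rw [lhs, rhs, map_mul, map_mul, map_mul, map_inv, map_inv, X.π_x _ hr, X.π_x _ hs,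
    map_list_prod, List.map_map]
  have e : (rhsWord (T.commT r s) t u).map (S.π ∘ fun p => X.x p.1 p.2) =
      (rhsWord (T.commT r s) t u).map fun p => G.full.x p.1 p.2 := by
    refine List.map_congr_left fun p hp => ?_
    simp only [rhsWord, List.mem_map] at hp
    obtain ⟨c, hc, rfl⟩ := hp
    exact X.π_x _ (commT_lt G hr hs hc) _
  rw [e, mul_assoc, h]
  group

/-- The hypotheses on pairs. -/
structure PairHyp : Prop where
  com : ∀ r < D.nroots, ∀ s < D.nroots, s ≠ r → s ≠ Tab.negR D r → T.commT r s = [] →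
    ∀ {t u : F} {g h : Γ}, S.π g = G.full.x r t → S.π h = G.full.x s u → Commute g h
  kill : ∀ r < D.nroots, ∀ s < D.nroots, s ≠ r → s ≠ Tab.negR D r → T.commT r s ≠ [] →
    (Kill T F r s ∧ ∃ L, chkTerms T r s L = true) ∨ X.R2 r s

/-- The subgroup generated by the elements of a set of roots. -/
def W (A : Set ℕ) : Subgroup Γ :=
  Subgroup.closure {g | ∃ c ∈ A, ∃ t, g = X.x c t}

theorem x_mem' {A : Set ℕ} {c : ℕ} (hc : c ∈ A) (t : F) : X.x c t ∈ X.W A :=
  Subgroup.subset_closure ⟨c, hc, t, rfl⟩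

theorem W_mono {A B : Set ℕ} (h : A ⊆ B) : X.W A ≤ X.W B :=
  Subgroup.closure_mono fun _ ⟨c, hc, t, e⟩ => ⟨c, h hc, t, e⟩

theorem rhs_mem {r s : ℕ} {A : Set ℕ} (h : ∀ c ∈ T.commT r s, c.1 ∈ A) (t u : F) :
    X.rhs r s t u ∈ X.W A :=
  list_prod_mem fun g hg => by
    simp only [rhsWord, List.map_map, List.mem_map, Function.comp_apply] at hg
    obtain ⟨c, hc, rfl⟩ := hg
    exact X.x_mem' (h c hc) _

theorem conj_mem {r : ℕ} (hr : r < D.nroots) {A : Set ℕ}
    (hA : ∀ c ∈ A, c < D.nroots ∧ (c = r ∨ (X.R2 r c ∧ ∀ k ∈ T.commT r c, k.1 ∈ A)))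
    (t : F) {g : Γ} (hg : g ∈ X.W A) : X.x r t * g * (X.x r t)⁻¹ ∈ X.W A := by
  induction hg using Subgroup.closure_induction with
  | mem g hg =>
    obtain ⟨c, hc, u, rfl⟩ := hg
    obtain ⟨hcl, rfl | ⟨h2, hsub⟩⟩ := hA c hc
    · rw [X.add _ hr, X.x_inv hr, X.add _ hr]; exact X.x_mem' hc _
    · have e : X.x r t * X.x c u * (X.x r t)⁻¹ = X.x c u * X.lhs r c (-t) u := by
        rw [lhs, X.x_inv hr, X.x_inv hr, neg_neg]; group
      rw [e, h2]
      exact mul_mem (X.x_mem' hc _) (X.rhs_mem hsub _ _)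
  | one => simp
  | mul a b _ _ ha hb =>
    rw [show X.x r t * (a * b) * (X.x r t)⁻¹ =
      X.x r t * a * (X.x r t)⁻¹ * (X.x r t * b * (X.x r t)⁻¹) by group]
    exact mul_mem ha hb
  | inv a _ ha =>
    rw [show X.x r t * a⁻¹ * (X.x r t)⁻¹ = (X.x r t * a * (X.x r t)⁻¹)⁻¹ by group]
    exact inv_mem ha

theorem π_W_le {A : Set ℕ} (hA : ∀ c ∈ A, c < D.nroots) : (X.W A).map S.π ≤ G.US F A := by
  rw [W, MonoidHom.map_closure, Subgroup.closure_le]
  rintro _ ⟨_, ⟨c, hc, t, rfl⟩, rfl⟩
  rw [X.π_x _ (hA c hc)]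
  exact G.x_mem_US hc t

/-- The map to matrices is injective on a closed set of positive roots. -/
theorem inj_W (L : List (Fin D.rank)) {A : Set ℕ} (hA : A ⊆ Tab.posSet (G.full.pw L))
    (hcl : ∀ a ∈ A, ∀ c ∈ A, c = a ∨ (X.R2 a c ∧ ∀ k ∈ T.commT a c, k.1 ∈ A)) :
    ∀ (m k : ℕ), (∀ s : Fin D.nroots, T.keyPos s.val < k + m) →
      ∀ g ∈ X.W (A ∩ T.aboveSet (G.full.pw L) k), S.π g = 1 → g = 1 := by
  intro m
  induction m with
  | zero =>
    intro k hk g hg _
    have : A ∩ T.aboveSet (G.full.pw L) k = ∅ := by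
      ext s
      simp only [Tab.aboveSet, Set.mem_inter_iff, Set.mem_setOf_eq, Set.mem_empty_iff_false,
        iff_false, not_and, not_exists, not_le]
      intro _ h _
      exact lt_of_lt_of_le (hk _) (le_of_eq (add_zero k))
    rw [this] at hg
    simpa [W] using hg
  | succ m ih =>
    intro k hk g hg hπ
    have ih' := ih (k + 1) (fun s => by have := hk s; omega)
    set A' := A ∩ T.aboveSet (G.full.pw L) (k + 1) with hA'
    by_cases hex : ∃ r : Fin D.nroots, r.val ∈ A ∧ Tab.IsPos D (G.full.pw L r).val ∧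
        T.keyPos (G.full.pw L r).val = k
    · obtain ⟨r, hrA, hrpos, hrkey⟩ := hex
      have hsplit : ∀ s ∈ A ∩ T.aboveSet (G.full.pw L) k, s = r.val ∨ s ∈ A' := by
        rintro s ⟨hsA, hs, h1, h2⟩
        rcases eq_or_lt_of_le h2 with e | e
        · exact Or.inl (congrArg Fin.val ((G.full.pw L).injective (Fin.ext
            (G.keyPos_inj (Fin.isLt _) (Fin.isLt _) (e.symm.trans hrkey.symm)))))
        · exact Or.inr ⟨hsA, hs, h1, e⟩
      have hnorm : ∀ t, ∀ v ∈ X.W A', X.x r t * v * (X.x r t)⁻¹ ∈ X.W A' := by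
        intro t v hv
        refine X.conj_mem r.isLt (fun c hc => ?_) t hv
        obtain ⟨hcA, hcl', hc1, hc2⟩ := hc
        refine ⟨hcl', (hcl _ hrA _ hcA).imp id fun ⟨h, hsub⟩ => ⟨h, fun x hx => ⟨hsub x hx, ?_⟩⟩⟩
        obtain ⟨h', h1, h2, -⟩ := G.comm_pw L ⟨r.isLt, hrpos⟩ ⟨hcl', hc1⟩ hx
        have := G.keyPos_lt hrpos h2
        exact ⟨h', h1, by omega⟩
      obtain ⟨a, v, hv, rfl⟩ : ∃ a, ∃ v ∈ X.W A', g = X.x r a * v := by
        clear hπ
        induction hg using Subgroup.closure_induction with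
        | mem g hg =>
          obtain ⟨s, hs, t, rfl⟩ := hg
          rcases hsplit s hs with rfl | h
          · exact ⟨t, 1, one_mem _, (mul_one _).symm⟩
          · exact ⟨0, _, X.x_mem' h t, by rw [X.x_zero r.isLt, one_mul]⟩
        | one => exact ⟨0, 1, one_mem _, by rw [X.x_zero r.isLt, one_mul]⟩
        | mul p q _ _ hp hq =>
          obtain ⟨a, v, hv, rfl⟩ := hp
          obtain ⟨b, w, hw, rfl⟩ := hq
          refine ⟨a + b, _, mul_mem (hnorm (-b) v hv) hw, ?_⟩
          rw [← X.add _ r.isLt, ← X.x_inv r.isLt b]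
          group
        | inv p _ hp =>
          obtain ⟨a, v, hv, rfl⟩ := hp
          refine ⟨-a, _, hnorm a _ (inv_mem hv), ?_⟩
          rw [← X.x_inv r.isLt a]
          group
      rw [map_mul, X.π_x _ r.isLt] at hπ
      have hAlt : ∀ c ∈ A', c < D.nroots := fun c hc => (hA hc.1).1
      have ha : G.full.x r.val a ∈ G.US F A' := by
        rw [eq_inv_of_mul_eq_one_left hπ]
        exact inv_mem (X.π_W_le hAlt ⟨v, hv, rfl⟩)
      obtain ⟨c, hc⟩ := G.rootAct_nw (F := F) L
      have ha2 := G.conj_x_act (G.rootAct_nw (F := F) L)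
        (S' := {b | Tab.IsPos D b ∧ k + 1 ≤ T.keyPos b})
        (fun s hs => by obtain ⟨-, h, h1, h2⟩ := hs; exact ⟨h, h1, h2⟩) ha
      rw [(hc r).2.2.2] at ha2
      have hzero := G.eq_zero_of_x_mem_closed hrpos (G.closed_keyAbove (k + 1))
        (fun h => by have := h.2; rw [hrkey] at this; omega) ha2
      have ha0 : a = 0 := (mul_eq_zero.mp hzero).resolve_left (c r).ne_zero
      subst ha0
      rw [X.x_zero r.isLt, one_mul]
      rw [G.full.x_zero, one_mul] at hπ
      exact ih' v hv hπ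
    · refine ih' g (X.W_mono (fun s hs => ?_) hg) hπ
      obtain ⟨hsA, hlt, h1, h2⟩ := hs
      exact ⟨hsA, hlt, h1, Nat.lt_of_le_of_ne h2 fun e => hex ⟨⟨s, hlt⟩, hsA, h1, e.symm⟩⟩

theorem eq_of_W (L : List (Fin D.rank)) {A : Set ℕ} (hA : A ⊆ Tab.posSet (G.full.pw L))
    (hcl : ∀ a ∈ A, ∀ c ∈ A, c = a ∨ (X.R2 a c ∧ ∀ k ∈ T.commT a c, k.1 ∈ A))
    {g h : Γ} (hg : g ∈ X.W A) (hh : h ∈ X.W A) (e : S.π g = S.π h) : g = h := by
  have hsub : X.W A ≤ X.W (A ∩ T.aboveSet (G.full.pw L) 0) :=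
    X.W_mono fun s hs => ⟨hs, (hA hs).1, (hA hs).2, Nat.zero_le _⟩
  rw [← mul_inv_eq_one]
  refine X.inj_W L hA hcl ((Finset.univ.sup fun s : Fin D.nroots => T.keyPos s.val) + 1) 0
    (fun s => ?_) _ (hsub (mul_mem hg (inv_mem hh))) (by rw [map_mul, map_inv, e, mul_inv_cancel])
  have := Finset.le_sup (f := fun s : Fin D.nroots => T.keyPos s.val) (Finset.mem_univ s)
  omega

theorem R2_all (hP : X.PairHyp) : ∀ (n : ℕ), ∀ r < D.nroots, ∀ s < D.nroots, s ≠ r → s ≠ Tab.negR D r →
    (T.commT r s).length = n → X.R2 r s := by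
  intro n
  induction n using Nat.strong_induction_on with
  | _ n ih =>
    intro r hr s hs hne hn hlen
    subst hlen
    by_cases hemp : T.commT r s = []
    · intro t u
      have hc := hP.com r hr s hs hne hn hemp (X.π_x _ hr t) (X.π_x _ hs u)
      rw [lhs, rhs, hemp]
      simp only [rhsWord, List.map_nil, List.prod_nil]
      rw [mul_assoc, mul_assoc, ← hc.eq]
      group
    rcases hP.kill r hr s hs hne hn hemp with ⟨hk, Ln, hchk⟩ | hspec
    swap
    · exact hspec
    simp only [chkTerms, Bool.and_eq_true, List.all_eq_true, Nat.blt_eq, Nat.ble_eq] at hchk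
    obtain ⟨hLn, hA⟩ := hchk
    let L : List (Fin D.rank) := Ln.pmap (fun i hi => (⟨i, hi⟩ : Fin D.rank)) hLn
    have hLv : L.map Fin.val = Ln := by simp [L, List.map_pmap]
    set A : Set ℕ := {c | c ∈ terms T r s} with hAdef
    have hpos : A ⊆ Tab.posSet (G.full.pw L) := fun c hc => by
      obtain ⟨⟨⟨⟨hlt, hp⟩, -⟩, -⟩, -⟩ := hA c hc
      refine ⟨hlt, Fin.isLt _, ?_⟩
      rw [G.pw_apply, hLv]
      simpa using hp
    have sub : ∀ {a b : ℕ}, a < D.nroots → b < D.nroots →
        chkSub T (T.commT r s).length (terms T r s) a b = true →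
        b = a ∨ (X.R2 a b ∧ ∀ k ∈ T.commT a b, k.1 ∈ A) := by
      intro a b ha hb h
      rcases eq_or_ne b a with e | e
      · exact Or.inl e
      · have hb' : Nat.beq b a = false :=
          Bool.eq_false_iff.2 fun h => e (Nat.eq_of_beq_eq_true h)
        simp only [chkSub, hb', Bool.false_or, Bool.and_eq_true, Bool.not_eq_true', Nat.blt_eq,
          List.all_eq_true, List.elem_eq_mem, decide_eq_true_eq] at h
        obtain ⟨⟨h1, h2⟩, h3⟩ := h
        refine Or.inr ⟨ih _ h2 a ha b hb e (fun e' => ?_) rfl, fun k hk => h3 _ ?_⟩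
        · rw [← e', Nat.beq_refl] at h1; exact Bool.noConfusion h1
        · exact List.mem_map_of_mem hk
    have hcl : ∀ a ∈ A, ∀ c ∈ A, c = a ∨ (X.R2 a c ∧ ∀ k ∈ T.commT a c, k.1 ∈ A) :=
      fun a ha c hc => sub (hA a ha).1.1.1.1 (hA c hc).1.1.1.1 ((hA a ha).2 c hc)
    have hnr : ∀ t, ∀ g ∈ X.W A, X.x r t * g * (X.x r t)⁻¹ ∈ X.W A := fun t g hg =>
      X.conj_mem hr (fun c hc => ⟨(hA c hc).1.1.1.1, sub hr (hA c hc).1.1.1.1 (hA c hc).1.1.2⟩) t hg
    have hns : ∀ t, ∀ g ∈ X.W A, X.x s t * g * (X.x s t)⁻¹ ∈ X.W A := fun t g hg =>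
      X.conj_mem hs (fun c hc => ⟨(hA c hc).1.1.1.1, sub hs (hA c hc).1.1.1.1 (hA c hc).1.2⟩) t hg
    have hR : ∀ t u, X.rhs r s t u ∈ X.W A := X.rhs_mem fun c hc => List.mem_map_of_mem hc
    obtain ⟨f, hf⟩ : ∃ f : F → F → Γ, ∀ t u, f t u = X.lhs r s t u * (X.rhs r s t u)⁻¹ :=
      ⟨fun t u => X.lhs r s t u * (X.rhs r s t u)⁻¹, fun _ _ => rfl⟩
    have hπ : ∀ t u, S.π (f t u) = 1 := fun t u => by
      rw [hf, map_mul, map_inv, X.π_lhs hr hs hne hn, mul_inv_cancel]
    have hLR : ∀ t u, X.lhs r s t u = f t u * X.rhs r s t u := fun t u => by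
      rw [hf]; group
    have hpull : ∀ t u (a w b : Γ), a * (f t u * w) * b = f t u * (a * w * b) := fun t u a w b => by
      have hz := Subgroup.mem_center_iff.1 (S.central (MonoidHom.mem_ker.2 (hπ t u))) a
      rw [← mul_assoc a, hz]
      simp only [mul_assoc]
    have hcen : ∀ t u g, g * f t u = f t u * g := fun t u g =>
      Subgroup.mem_center_iff.1 (S.central (MonoidHom.mem_ker.2 (hπ t u))) g
    have key := kill_trivial (f := f) hk
      (fun a b c => by
        -- additivity in the first variable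
        have e : X.lhs r s (a + b) c =
            X.lhs r s b c * ((X.x r b)⁻¹ * X.lhs r s a c * X.x r b) := by
          simp only [lhs]
          rw [← X.add _ hr a b]
          group
        rw [hLR, hLR b c, hLR a c] at e
        set x := (X.x r b)⁻¹ * X.rhs r s a c * X.x r b with hx
        have e' : f (a + b) c * X.rhs r s (a + b) c = f a c * f b c * (X.rhs r s b c * x) := by
          rw [e, hpull a c, ← hx, ← mul_assoc, mul_assoc (f b c), hcen a c, ← mul_assoc (f b c),
            hcen a c]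
          simp only [mul_assoc]
        have hxm : X.rhs r s b c * x ∈ X.W A := by
          refine mul_mem (hR _ _) ?_
          have := hnr (-b) _ (hR a c)
          rw [← X.x_inv hr, inv_inv] at this
          exact this
        have e1 : S.π (X.rhs r s (a + b) c) = S.π (X.rhs r s b c * x) := by
          have := congrArg S.π e'
          rwa [map_mul, map_mul, map_mul, hπ, hπ, hπ, one_mul, one_mul, one_mul] at this
        rw [X.eq_of_W L hpos hcl (hR _ _) hxm e1] at e'
        exact mul_right_cancel e')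
      (fun a b c => by
        -- additivity in the second variable
        have e : X.lhs r s a (b + c) = (X.x s c)⁻¹ * X.lhs r s a b * X.x s c * X.lhs r s a c := by
          simp only [lhs]
          rw [← X.add _ hs b c]
          group
        rw [hLR, hLR a c, hLR a b] at e
        set x := (X.x s c)⁻¹ * X.rhs r s a b * X.x s c with hx
        have e' : f a (b + c) * X.rhs r s a (b + c) = f a b * f a c * (x * X.rhs r s a c) := by
          rw [e, hpull a b, ← hx, ← mul_assoc, mul_assoc (f a b), hcen a c, ← mul_assoc (f a b)]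
          simp only [mul_assoc]
        have hxm : x * X.rhs r s a c ∈ X.W A := by
          refine mul_mem ?_ (hR _ _)
          have := hns (-c) _ (hR a b)
          rw [← X.x_inv hs, inv_inv] at this
          exact this
        have e1 : S.π (X.rhs r s a (b + c)) = S.π (x * X.rhs r s a c) := by
          have := congrArg S.π e'
          rwa [map_mul, map_mul, map_mul, hπ, hπ, hπ, one_mul, one_mul, one_mul] at this
        rw [X.eq_of_W L hpos hcl (hR _ _) hxm e1] at e'
        exact mul_right_cancel e')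
      (fun d a b => by
        -- invariance under the torus
        have e : (S.H d) * X.lhs r s a b * (S.H d)⁻¹ =
            X.lhs r s ((T.chi r d : F) * a) ((T.chi s d : F) * b) := by
          simp only [lhs]
          rw [← X.conj _ hr d a, ← X.conj _ hs d b]
          group
        rw [hLR, hLR, hpull a b] at e
        have hm : (S.H d) * X.rhs r s a b * (S.H d)⁻¹ ∈ X.W A := by
          have hle : X.W A ≤ (X.W A).comap (MulAut.conj (S.H d)).toMonoidHom := by
            rw [W, Subgroup.closure_le]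
            rintro _ ⟨c, hc, t, rfl⟩
            rw [SetLike.mem_coe, Subgroup.mem_comap, MulEquiv.coe_toMonoidHom, MulAut.conj_apply,
              X.conj _ (hA c hc).1.1.1.1]
            exact X.x_mem' hc _
          exact hle (hR a b)
        have e1 := congrArg S.π e
        rw [map_mul S.π (f a b), map_mul S.π (f _ _), hπ, hπ, one_mul, one_mul] at e1
        rw [X.eq_of_W L hpos hcl hm (hR _ _) e1] at e
        exact (mul_right_cancel e).symm)
    intro t u
    rw [hLR, key t u, one_mul]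

/-- Steinberg's relations lift. -/
theorem exists_hom (hP : X.PairHyp) : ∃ τ : D.SteinbergCover F →* Γ,
    ∀ r < D.nroots, ∀ t, S.π (τ (D.scGen F r t)) = G.full.x r t :=
  S.exists_hom X.x X.π_x X.add
    fun r hr s hs hne hn t u => X.R2_all hP _ r hr s hs hne hn rfl t u

end Fam

variable {S}

/-- Steinberg's relations lift. -/
theorem exists_hom_tor (hS : S.TorHyp) : ∃ τ : D.SteinbergCover F →* Γ,
    ∀ r < D.nroots, ∀ t, S.π (τ (D.scGen F r t)) = G.full.x r t :=
  (S.torFam hS).exists_hom ⟨hS.com, fun r hr s hs h1 h2 h3 => Or.inl (hS.kill r hr s hs h1 h2 h3)⟩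

end CentExt

end CfsgLib.ChevMult
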