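/-
Checks which give the hypotheses of the lifting by means of the torus.
-/
import Cfsg.Agent.ChevMult.Tor
import Mathlib.Algebra.Polynomial.Roots
import Mathlib.Data.Fintype.Card

set_option autoImplicit false

namespace CfsgLib.ChevMult

open Cfsg.Lie CfsgLib.Chev
open scoped commutatorElement MatrixGroups

/-- Parameters of the checks. -/
structure TorCfg where
  /-- cocharacters -/
  vs : List (List ℤ)
  /-- words -/
  Ls : List (List ℕ)
  /-- decompositions `r = a + b` -/
  decs : List (ℕ × ℕ × ℕ)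
  /-- coefficients which are units -/
  U : List ℕ
  /-- bound for the characters -/
  m : ℕ
  /-- whether scalars are available -/
  sc : Bool

variable {D : ChevalleyDatum} (T : Tab D)

/-- The pairing of a cocharacter with a root. -/
def dotv (v : List ℤ) (r : ℕ) : ℤ :=
  ((List.range D.rank).map fun i => v.getD i 0 * T.cart i r).sum

/-- Non-zero and bounded. -/
def small (m : ℕ) (z : ℤ) : Bool := Nat.blt 0 z.natAbs && Nat.ble z.natAbs m

/-- Some cocharacter separates the roots. -/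
def chkKill (C : TorCfg) (r s : ℕ) : Bool :=
  C.vs.any fun v => (decide (dotv T v r = 0) && small C.m (dotv T v s)) ||
    (decide (dotv T v s = 0) && small C.m (dotv T v r))

/-- The root elements commute, or the roots are equal. -/
def cT (s a : ℕ) : Bool :=
  Nat.beq s a || (!(Nat.beq a (Tab.negR D s)) && (T.commT s a).isEmpty)

/-- `r` is the only term of its root in the formula for `(a, b)`; `s` commutes with all. -/
def chkDec (C : TorCfg) (r s : ℕ) (comp : Bool) : Bool :=
  C.decs.any fun e => Nat.beq e.1 r && Nat.blt e.2.1 D.nroots && Nat.blt e.2.2 D.nroots &&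
    !(Nat.beq e.2.2 e.2.1) && !(Nat.beq e.2.2 (Tab.negR D e.2.1)) &&
    cT T s e.2.1 && cT T s e.2.2 &&
    (comp || Nat.beq (T.commT e.2.1 e.2.2).length 1) &&
    (match (T.commT e.2.1 e.2.2).filter fun c => Nat.beq c.1 r with
      | [c] => C.U.elem c.2.1.natAbs && (Nat.beq c.2.2.1 1 || Nat.beq c.2.2.2 1)
      | _ => false) &&
    (T.commT e.2.1 e.2.2).all fun c => Nat.beq c.1 r ||
      (!(Nat.beq c.1 s) && !(Nat.beq c.1 (Tab.negR D s)) && (T.commT s c.1).isEmpty)

/-- All conditions on the root `r`. -/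
def chkTor (C : TorCfg) (r : ℕ) : Bool :=
  (C.vs.any fun v => small C.m (dotv T v r)) &&
  ((C.sc && C.vs.any fun v => Nat.beq (dotv T v r).natAbs 1) || chkDec T C r r true) &&
  allBelow (fun s => Nat.beq s r || Nat.beq s (Tab.negR D r) ||
    cond (T.commT r s).isEmpty (chkKill T C r s || chkDec T C r s false || chkDec T C s r false)
      (chkKill T C r s && C.Ls.any fun L => chkTerms T r s L)) D.nroots

variable {T} {G : T.Good} {F : Type*} [Field F]

theorem beq_false' {x y : ℕ} (h : Nat.beq x y = false) : x ≠ y := fun e => by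
  subst e; rw [Nat.beq_refl] at h; exact Bool.noConfusion h

/-- The torus element of a cocharacter. -/
def dv (v : List ℤ) (a : Fˣ) : Fin D.rank → Fˣ := fun i => a ^ v.getD i.val 0

theorem chi_dv (v : List ℤ) (a : Fˣ) (r : ℕ) :
    T.chi r (dv (D := D) v a) = a ^ dotv T v r := by
  rw [dotv, Tab.list_sum_range (fun i => v.getD i 0 * T.cart i r), Tab.zpow_sum_eq_prod]
  simp only [Tab.chi, MonoidHom.coe_mk, OneHom.coe_mk, dv, ← _root_.zpow_mul]

theorem exists_zpow_ne {m : ℕ} (hm : ∀ n, 1 ≤ n → n ≤ m → ∃ a : Fˣ, a ^ n ≠ 1) {z : ℤ}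
    (hz : small m z = true) : ∃ a : Fˣ, a ^ z ≠ 1 := by
  simp only [small, Bool.and_eq_true, Nat.blt_eq, Nat.ble_eq] at hz
  obtain ⟨a, ha⟩ := hm z.natAbs hz.1 hz.2
  refine ⟨a, fun h => ha ?_⟩
  rcases Int.natAbs_eq z with e | e <;> rw [e] at h
  · rwa [zpow_natCast] at h
  · rwa [_root_.zpow_neg, inv_eq_one, zpow_natCast] at h

theorem kill_of_chk (C : TorCfg) (hm : ∀ n, 1 ≤ n → n ≤ C.m → ∃ a : Fˣ, a ^ n ≠ 1) {r s : ℕ}
    (h : chkKill T C r s = true) : Kill T F r s := by
  simp only [chkKill, List.any_eq_true, Bool.or_eq_true, Bool.and_eq_true, decide_eq_true_eq] at h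
  obtain ⟨v, -, ⟨h0, h1⟩ | ⟨h0, h1⟩⟩ := h
  · obtain ⟨a, ha⟩ := exists_zpow_ne hm h1
    exact ⟨dv v a, Or.inl ⟨by rw [chi_dv, h0, _root_.zpow_zero], by rwa [chi_dv]⟩⟩
  · obtain ⟨a, ha⟩ := exists_zpow_ne hm h1
    exact ⟨dv v a, Or.inr ⟨by rw [chi_dv, h0, _root_.zpow_zero], by rwa [chi_dv]⟩⟩

theorem x_cT {s a : ℕ} (hs : s < D.nroots) (ha : a < D.nroots) (h : cT T s a = true) (t u : F) :
    Commute (G.full.x s t) (G.full.x a u) := by
  by_cases e : s = a
  · subst e
    show _ = _
    rw [G.full.x_add, G.full.x_add, add_comm]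
  · have e' : Nat.beq s a = false := Bool.eq_false_iff.2 fun h => e (Nat.eq_of_beq_eq_true h)
    simp only [cT, e', Bool.false_or, Bool.and_eq_true, Bool.not_eq_true', List.isEmpty_iff] at h
    exact x_pair_commute (G := G) hs ha (Ne.symm e) (beq_false' h.1) h.2 t u

/-- With more than four scalars, invariant biadditive pairings vanish. -/
theorem scalar_trivial (hF : ∃ s : Finset F, 4 < s.card) {Γ : Type*} [Group Γ] {f : F → F → Γ}
    (hl : ∀ a b c, f (a + b) c = f a c * f b c) (hr : ∀ a b c, f a (b + c) = f a b * f a c)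
    (hi : ∀ a : F, a ≠ 0 → ∀ t u, f (a * t) (a * u) = f t u) (t u : F) : f t u = 1 := by
  classical
  obtain ⟨a, ha0, ha1, ha2⟩ : ∃ a : F, a ≠ 0 ∧ 1 + a ≠ 0 ∧ a ^ 2 + a + 1 ≠ 0 := by
    by_contra hc
    simp only [not_exists, not_and, not_not] at hc
    obtain ⟨s, hs⟩ := hF
    let p : Polynomial F := Polynomial.X ^ 2 + Polynomial.X + 1
    have hp : p ≠ 0 := fun e => by
      have := congrArg (fun q => Polynomial.coeff q 2) e
      simp [p, Polynomial.coeff_X, Polynomial.coeff_one] at this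
    have hsub : s ⊆ {0, -1} ∪ p.roots.toFinset := fun x _ => by
      by_cases h0 : x = 0
      · simp [h0]
      by_cases h1 : (1 : F) + x = 0
      · simp [show x = -1 by linear_combination h1]
      refine Finset.mem_union_right _ ?_
      rw [Multiset.mem_toFinset, Polynomial.mem_roots hp]
      simpa [p, Polynomial.IsRoot] using hc x h0 h1
    have hdeg : p.natDegree ≤ 2 := by simp only [p]; compute_degree
    have h1 := (Finset.card_le_card hsub).trans (Finset.card_union_le _ _)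
    have h2 : p.roots.toFinset.card ≤ 2 :=
      (Multiset.toFinset_card_le _).trans ((Polynomial.card_roots' p).trans hdeg)
    have h3 : ({0, -1} : Finset F).card ≤ 2 := Finset.card_le_two
    omega
  have hΦ : ∀ b : F, b ≠ 0 → ∀ x y, f (b * x) y = f x (b⁻¹ * y) := fun b hb x y => by
    have := hi b hb x (b⁻¹ * y)
    rwa [← mul_assoc, mul_inv_cancel₀ hb, one_mul] at this
  have key : ∀ x y, f x ((1 + a⁻¹ - (1 + a)⁻¹) * y) = 1 := fun x y => by
    have e := hΦ (1 + a) ha1 x y
    rw [add_mul, one_mul, hl, hΦ a ha0, ← hr,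
      show y + a⁻¹ * y = (1 + a⁻¹ - (1 + a)⁻¹) * y + (1 + a)⁻¹ * y by ring, hr] at e
    exact mul_eq_right.1 e
  have hc : 1 + a⁻¹ - (1 + a)⁻¹ ≠ 0 := by
    intro e
    refine ha2 ?_
    have : (a * (1 + a)) * (1 + a⁻¹ - (1 + a)⁻¹) = 0 := by rw [e, mul_zero]
    rw [show (a * (1 + a)) * (1 + a⁻¹ - (1 + a)⁻¹) = a * (1 + a) + (a * a⁻¹) * (1 + a) -
      a * ((1 + a) * (1 + a)⁻¹) by ring, mul_inv_cancel₀ ha0, mul_inv_cancel₀ ha1] at this
    linear_combination this
  have := key t ((1 + a⁻¹ - (1 + a)⁻¹)⁻¹ * u)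
  rwa [← mul_assoc, mul_inv_cancel₀ hc, one_mul] at this

namespace CentExt

variable {Γ : Type*} [Group Γ] (S : CentExt G F Γ) {C : TorCfg}
include S

/-- Lifts of `r` commute when scalars act on them. -/
theorem ab_scalar (hF : ∃ s : Finset F, 4 < s.card) {r : ℕ} (hr : r < D.nroots) {v : List ℤ}
    (hv : (dotv T v r).natAbs = 1) {t u : F} {g h : Γ}
    (hg : S.π g = G.full.x r t) (hh : S.π h = G.full.x r u) : Commute g h := by
  set f : F → F → Γ := fun t u => ⁅S.L r t, S.L r u⁆ with hf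
  have h1 : ∀ t u, S.π (f t u) = 1 := fun t u => by
    rw [hf, map_commutatorElement, S.π_L, S.π_L, commutatorElement_eq_one_iff_mul_comm,
      G.full.x_add, G.full.x_add, add_comm]
  have key := scalar_trivial hF (f := f)
    (fun a b c => by
      show ⁅S.L r (a + b), S.L r c⁆ = ⁅S.L r a, S.L r c⁆ * ⁅S.L r b, S.L r c⁆
      rw [S.comm_congr (a' := S.L r a * S.L r b) (by rw [map_mul, S.π_L, S.π_L, S.π_L, G.full.x_add])
        (rfl : S.π (S.L r c) = _),
        show ⁅S.L r a * S.L r b, S.L r c⁆ = S.L r a * f b c * (S.L r a)⁻¹ * f a c by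
          simp only [hf, commutatorElement_def]; group, S.central_fix (h1 b c)]
      exact (Subgroup.mem_center_iff.1 (S.central (MonoidHom.mem_ker.2 (h1 b c))) _).symm)
    (fun a b c => by
      show ⁅S.L r a, S.L r (b + c)⁆ = ⁅S.L r a, S.L r b⁆ * ⁅S.L r a, S.L r c⁆
      rw [S.comm_congr (rfl : S.π (S.L r a) = _) (b' := S.L r b * S.L r c)
        (by rw [map_mul, S.π_L, S.π_L, S.π_L, G.full.x_add]),
        show ⁅S.L r a, S.L r b * S.L r c⁆ = f a b * (S.L r b * f a c * (S.L r b)⁻¹) by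
          simp only [hf, commutatorElement_def]; group, S.central_fix (h1 a c)])
    (fun a ha x y => by
      obtain ⟨d, hd⟩ : ∃ d : Fin D.rank → Fˣ, (T.chi r d : F) = a := by
        rcases Int.natAbs_eq (dotv T v r) with e | e <;> rw [hv, Nat.cast_one] at e
        · exact ⟨dv v (Units.mk0 a ha), by rw [chi_dv, e, _root_.zpow_one]; rfl⟩
        · exact ⟨dv v (Units.mk0 a ha)⁻¹, by
            rw [chi_dv, e, _root_.zpow_neg, _root_.zpow_one, inv_inv]; rfl⟩
      rw [← hd]
      show ⁅S.L r _, S.L r _⁆ = f x y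
      rw [S.comm_congr (a' := S.H d * S.L r x * (S.H d)⁻¹) (b' := S.H d * S.L r y * (S.H d)⁻¹)
        (by rw [S.π_conj_H d hr (S.π_L r x), S.π_L]) (by rw [S.π_conj_H d hr (S.π_L r y), S.π_L]),
        ← conjugate_commutatorElement]
      exact S.central_fix (h1 x y) _)
  rw [← commutatorElement_eq_one_iff_commute,
    S.comm_congr (hg.trans (S.π_L r t).symm) (hh.trans (S.π_L r u).symm)]
  exact key t u

omit [Field F] S in
/-- An element which commutes with a product and all its factors but one. -/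
theorem commute_factor {g : Γ} (p : (ℕ × ℤ × ℕ × ℕ) → Bool) (φ : (ℕ × ℤ × ℕ × ℕ) → Γ)
    {c₀ : ℕ × ℤ × ℕ × ℕ} : ∀ l : List (ℕ × ℤ × ℕ × ℕ), l.filter p = [c₀] →
    (∀ c ∈ l, p c = false → Commute g (φ c)) → Commute g (l.map φ).prod → Commute g (φ c₀) := by
  intro l
  induction l with
  | nil => intro h; simp at h
  | cons c l ih =>
    intro hfil hcom hprod
    rw [List.map_cons, List.prod_cons] at hprod
    cases hc : p c
    · rw [List.filter_cons_of_neg (by simp [hc])] at hfil
      refine ih hfil (fun d hd => hcom d (List.mem_cons_of_mem _ hd)) ?_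
      have := (hcom c (List.mem_cons_self ..) hc).inv_right.mul_right hprod
      rwa [inv_mul_cancel_left] at this
    · rw [List.filter_cons_of_pos hc, List.cons.injEq] at hfil
      obtain ⟨rfl, hrest⟩ := hfil
      have hl : Commute g (l.map φ).prod := Commute.list_prod_right _ _ fun x hx => by
        obtain ⟨d, hd, rfl⟩ := List.mem_map.1 hx
        exact hcom d (List.mem_cons_of_mem _ hd)
          (Bool.eq_false_iff.2 (List.filter_eq_nil_iff.1 hrest d hd))
      have := hprod.mul_right hl.inv_right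
      rwa [mul_inv_cancel_right] at this

/-- Lifts of `s` commute with lifts of `r = a + b`. -/
theorem commute_dec (hU : ∀ c ∈ C.U, (c : F) ≠ 0) {r s : ℕ} {comp : Bool} (hs : s < D.nroots)
    (hchk : chkDec T C r s comp = true)
    (hcomp : comp = true → ∀ c < D.nroots, c ≠ s → c ≠ Tab.negR D s → T.commT s c = [] →
      ∀ {t u : F} {g h : Γ}, S.π g = G.full.x s t → S.π h = G.full.x c u → Commute g h)
    {t u : F} {g h : Γ} (hg : S.π g = G.full.x r t) (hh : S.π h = G.full.x s u) :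
    Commute g h := by
  simp only [chkDec, List.any_eq_true, Bool.and_eq_true, Nat.beq_eq, Nat.blt_eq, List.all_eq_true,
    Bool.not_eq_true', Bool.or_eq_true, List.isEmpty_iff] at hchk
  obtain ⟨⟨e, a, b⟩, -, ⟨⟨⟨⟨⟨⟨⟨⟨he, ha⟩, hb⟩, hba⟩, hbn⟩, hsa⟩, hsb⟩, hlen⟩, hfil⟩, hall⟩ := hchk
  subst he
  simp only at ha hb hba hbn hsa hsb hlen hfil hall hg
  split at hfil
  swap
  · exact absurd hfil (by simp)
  rename_i c₀ hc₀
  simp only [Bool.and_eq_true, Bool.or_eq_true, Nat.beq_eq, List.elem_eq_mem,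
    decide_eq_true_eq] at hfil
  obtain ⟨hCU, hij⟩ := hfil
  have hmem : c₀ ∈ (T.commT a b).filter fun c => Nat.beq c.1 e := by rw [hc₀]; simp
  obtain ⟨hc₀m, hc₀e⟩ := List.mem_filter.1 hmem
  have hc₀r : c₀.1 = e := Nat.eq_of_beq_eq_true hc₀e
  have hC : (c₀.2.1 : F) ≠ 0 := by
    have := hU _ hCU
    rcases Int.natAbs_eq c₀.2.1 with e1 | e1 <;> rw [e1]
    · rwa [Int.cast_natCast]
    · rwa [Int.cast_neg, Int.cast_natCast, neg_ne_zero]
  obtain ⟨p, q, hpq⟩ : ∃ p q : F, (c₀.2.1 : F) * (-p) ^ c₀.2.2.1 * q ^ c₀.2.2.2 = t := by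
    rcases hij with e1 | e1
    · exact ⟨-(t / (c₀.2.1 : F)), 1, by
        rw [e1, pow_one, neg_neg, one_pow, mul_one, mul_div_cancel₀ _ hC]⟩
    · exact ⟨-1, t / (c₀.2.1 : F), by
        rw [e1, neg_neg, one_pow, mul_one, pow_one, mul_div_cancel₀ _ hC]⟩
  let φ : (ℕ × ℤ × ℕ × ℕ) → Γ := fun c =>
    S.L c.1 ((c.2.1 : F) * (-p) ^ c.2.2.1 * q ^ c.2.2.2)
  set X := ⁅S.L b (-q), S.L a (-p)⁆
  have hπ : S.π X = S.π ((T.commT a b).map φ).prod := by
    rw [map_commutatorElement, S.π_L, S.π_L,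
      x_commutator (G := G) ha hb (beq_false' hba) (beq_false' hbn), map_list_prod, List.map_map]
    simp only [rhsWord, List.map_map, neg_neg]
    exact congrArg List.prod (List.map_congr_left fun c _ => (S.π_L _ _).symm)
  have fix : ∀ {c : ℕ} (_ : c < D.nroots) (_ : cT T s c = true) (v : F),
      S.π (h * S.L c v * h⁻¹) = S.π (S.L c v) := fun hcl hq v => by
    rw [map_mul, map_mul, map_inv, hh, S.π_L, (x_cT (G := G) hs hcl hq u v).eq, mul_inv_cancel_right]
  have hX : h * X * h⁻¹ = X := by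
    rw [conjugate_commutatorElement]
    exact S.comm_congr (fix hb hsb _) (fix ha hsa _)
  have hprod : Commute h ((T.commT a b).map φ).prod := by
    obtain ⟨z, hz, e1⟩ := S.cen hπ.symm
    rw [e1]
    have hXc : Commute h X := mul_inv_eq_iff_eq_mul.1 hX
    exact hXc.mul_right (Subgroup.mem_center_iff.1 hz h)
  have key := commute_factor _ φ (T.commT a b) hc₀ (fun c hc hne => by
    rcases hlen with hco | hlen
    · rcases hall c hc with h1 | ⟨⟨h1, h2⟩, h3⟩
      · rw [h1, Nat.beq_refl] at hne; exact Bool.noConfusion hne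
      · exact hcomp hco _ (commT_lt G ha hb hc) (beq_false' h1) (beq_false' h2) h3 hh (S.π_L _ _)
    · exfalso
      obtain ⟨d, hd⟩ := List.length_eq_one_iff.1 hlen
      rw [hd] at hc hc₀m
      simp only [List.mem_cons, List.not_mem_nil, or_false] at hc hc₀m
      rw [hc, ← hc₀m, hc₀e] at hne
      exact Bool.noConfusion hne) hprod
  have e2 : S.π g = S.π (φ c₀) := by
    show _ = S.π (S.L c₀.1 _)
    rw [S.π_L, hpq, hc₀r, hg]
  obtain ⟨z, hz, rfl⟩ := S.cen e2
  exact (key.mul_right (Subgroup.mem_center_iff.1 hz h)).symm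

/-- The checks make lifts of commuting pairs commute. -/
theorem com_of_chk (hm : ∀ n, 1 ≤ n → n ≤ C.m → ∃ a : Fˣ, a ^ n ≠ 1)
    (hU : ∀ c ∈ C.U, (c : F) ≠ 0) (hC : allBelow (chkTor T C) D.nroots = true) :
    ∀ r < D.nroots, ∀ s < D.nroots, s ≠ r → s ≠ Tab.negR D r → T.commT r s = [] →
      ∀ {t u : F} {g h : Γ}, S.π g = G.full.x r t → S.π h = G.full.x s u → Commute g h := by
  have h := fun r hr => (allBelow_iff _ _).1 hC r hr
  simp only [chkTor, Bool.and_eq_true, Bool.or_eq_true, allBelow_iff, List.any_eq_true,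
    Nat.beq_eq] at h
  intro r hr s hs h1 h2 h3 t u g h' hg hh
  obtain ⟨-, hp⟩ := h r hr
  rcases hp s hs with (e | e) | e
  · exact absurd e h1
  · exact absurd e h2
  simp only [h3, List.isEmpty_nil, cond_true, Bool.or_eq_true] at e
  rcases e with (e | e) | e
  · exact S.commute_of_kill hr hs h1 h2 h3 (kill_of_chk C hm e) hg hh
  · exact S.commute_dec hU hs e (fun e => Bool.noConfusion e) hg hh
  · exact (S.commute_dec hU hr e (fun e => Bool.noConfusion e) hh hg).symm

/-- The checks give the hypotheses, given that the roots with scalars have commuting lifts. -/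
theorem torHyp' (hm : ∀ n, 1 ≤ n → n ≤ C.m → ∃ a : Fˣ, a ^ n ≠ 1)
    (hU : ∀ c ∈ C.U, (c : F) ≠ 0)
    (hab : C.sc = true → ∀ r < D.nroots, (∃ v ∈ C.vs, (dotv T v r).natAbs = 1) →
      ∀ {t u : F} {g h : Γ}, S.π g = G.full.x r t → S.π h = G.full.x r u → Commute g h)
    (hC : allBelow (chkTor T C) D.nroots = true) : S.TorHyp := by
  have h := fun r hr => (allBelow_iff _ _).1 hC r hr
  simp only [chkTor, Bool.and_eq_true, Bool.or_eq_true, allBelow_iff, List.any_eq_true,
    Nat.beq_eq] at h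
  have com := S.com_of_chk hm hU hC
  have hpair : ∀ r < D.nroots, ∀ s < D.nroots, s ≠ r → s ≠ Tab.negR D r →
      cond (T.commT r s).isEmpty (chkKill T C r s || chkDec T C r s false || chkDec T C s r false)
        (chkKill T C r s && C.Ls.any fun L => chkTerms T r s L) = true := fun r hr s hs h1 h2 => by
    rcases (h r hr).2 s hs with (e | e) | e
    exacts [absurd e h1, absurd e h2, e]
  refine ⟨fun r hr => ?_, fun r hr {t u g h'} hg hh => ?_, com, fun r hr s hs h1 h2 h3 => ?_⟩
  · obtain ⟨v, -, hv⟩ := (h r hr).1.1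
    obtain ⟨a, ha⟩ := exists_zpow_ne hm hv
    exact ⟨dv v a, by rwa [chi_dv]⟩
  · rcases (h r hr).1.2 with ⟨e, v, hvm, hv⟩ | e
    · exact hab e r hr ⟨v, hvm, hv⟩ hg hh
    · exact S.commute_dec hU hr e (fun _ c hc c1 c2 c3 => com r hr c hc c1 c2 c3) hg hh
  · have := hpair r hr s hs h1 h2
    simp only [List.isEmpty_eq_false_iff.2 h3, cond_false, Bool.and_eq_true,
      List.any_eq_true] at this
    exact ⟨kill_of_chk C hm this.1, this.2.choose, this.2.choose_spec.2⟩

/-- The checks give the hypotheses. -/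
theorem torHyp (hm : ∀ n, 1 ≤ n → n ≤ C.m → ∃ a : Fˣ, a ^ n ≠ 1)
    (hU : ∀ c ∈ C.U, (c : F) ≠ 0) (hsc : C.sc = true → ∃ s : Finset F, 4 < s.card)
    (hC : allBelow (chkTor T C) D.nroots = true) : S.TorHyp :=
  S.torHyp' hm hU (fun e _ hr ⟨_, _, hv⟩ => fun hg hh => S.ab_scalar (hsc e) hr hv hg hh) hC

end CentExt

/-- With more than four scalars the small powers are non-trivial. -/
theorem exists_pow_ne (hF : ∃ s : Finset F, 4 < s.card) {n : ℕ} (h1 : 1 ≤ n) (h3 : n ≤ 3) :
    ∃ a : Fˣ, a ^ n ≠ 1 := by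
  classical
  by_contra hc
  simp only [not_exists, not_not] at hc
  obtain ⟨s, hs⟩ := hF
  let p : Polynomial F := Polynomial.X ^ n - Polynomial.C 1
  have hp : p ≠ 0 := fun e => by
    have := congrArg Polynomial.natDegree e
    rw [Polynomial.natDegree_X_pow_sub_C, Polynomial.natDegree_zero] at this
    omega
  have hsub : s ⊆ {0} ∪ p.roots.toFinset := fun x _ => by
    by_cases h0 : x = 0
    · simp [h0]
    refine Finset.mem_union_right _ ?_
    rw [Multiset.mem_toFinset, Polynomial.mem_roots hp]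
    simpa [p, Polynomial.IsRoot, sub_eq_zero, Units.ext_iff] using hc (Units.mk0 x h0)
  have h4 := (Finset.card_le_card hsub).trans (Finset.card_union_le _ _)
  have h5 : p.roots.toFinset.card ≤ n :=
    (Multiset.toFinset_card_le _).trans ((Polynomial.card_roots' p).trans
      (Polynomial.natDegree_X_pow_sub_C).le)
  rw [Finset.card_singleton] at h4
  omega

end CfsgLib.ChevMult
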