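/-
Lifting Steinberg's relations over small fields.
-/
import Cfsg.Agent.ChevMult.TorPairs

set_option autoImplicit false

namespace CfsgLib.ChevMult

open Cfsg.Lie CfsgLib.Chev
open scoped commutatorElement MatrixGroups

variable {D : ChevalleyDatum} (T : Tab D)

/-- The sign of a root element under a word. -/
def swSgn : List ℕ → ℕ → ℤ
  | [], _ => 1
  | i :: L, s => T.sgn i (T.wordT L s) * swSgn L s

/-- A word interchanging the two roots, with the product of the signs one. -/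
def chkSwap (r s : ℕ) (L : List ℕ) : Bool :=
  L.all (fun i => Nat.blt i D.rank) && Nat.beq (T.wordT L r) s && Nat.beq (T.wordT L s) r &&
    decide (swSgn T L r * swSgn T L s = 1)

/-- Certificates for the field with three elements. -/
structure ThreeCfg where
  /-- cocharacters -/
  vs : List (List ℤ)
  /-- words for the terms -/
  Ls : List (List ℕ)
  /-- words interchanging roots -/
  sw : List (List ℕ)
  /-- roots without movers, as sums of two roots -/
  ks : List (ℕ × ℕ × ℕ)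

/-- The chosen summands. -/
def ThreeCfg.look (C : ThreeCfg) (k : ℕ) : Option (ℕ × ℕ) :=
  (C.ks.find? fun e => Nat.beq e.1 k).map Prod.snd

/-- The pair is the chosen one of its sum. -/
def chkSpecial (C : ThreeCfg) (r s : ℕ) : Bool :=
  match T.commT r s with
  | [c] => Nat.beq c.2.2.1 1 && Nat.beq c.2.2.2 1 &&
      (match C.look c.1 with
        | some ab => (Nat.beq ab.1 r && Nat.beq ab.2 s) || (Nat.beq ab.1 s && Nat.beq ab.2 r)
        | none => false)
  | _ => false

/-- All conditions on the root `r` over three elements. -/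
def chkThree (C : ThreeCfg) (r : ℕ) : Bool :=
  (match C.look r with
    | some ab => Nat.blt ab.1 D.nroots && Nat.blt ab.2 D.nroots &&
        (C.look ab.1).isNone && (C.look ab.2).isNone &&
        !(Nat.beq ab.2 ab.1) && !(Nat.beq ab.2 (Tab.negR D ab.1)) &&
        !(Nat.beq r ab.1) && !(Nat.beq r (Tab.negR D ab.1)) && (T.commT ab.1 r).isEmpty &&
        !(Nat.beq r ab.2) && !(Nat.beq r (Tab.negR D ab.2)) && (T.commT ab.2 r).isEmpty &&
        (match T.commT ab.1 ab.2 with
          | [c] => Nat.beq c.1 r && Nat.beq c.2.2.1 1 && Nat.beq c.2.2.2 1 &&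
              Nat.blt c.2.1.natAbs 3 && Nat.blt 0 c.2.1.natAbs
          | _ => false)
    | none => C.vs.any fun v => small 1 (dotv T v r)) &&
  allBelow (fun s => Nat.beq s r || Nat.beq s (Tab.negR D r) ||
    cond (T.commT r s).isEmpty
      (chkKill T ⟨C.vs, [], [], [], 1, false⟩ r s || C.sw.any fun L => chkSwap T r s L)
      ((chkKill T ⟨C.vs, [], [], [], 1, false⟩ r s && C.Ls.any fun L => chkTerms T r s L) ||
        chkSpecial T C r s)) D.nroots

/-- A decomposition `r = a + b` which shows that lifts of `r` commute with one another. -/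
def chkSelf (decs : List (ℕ × ℕ)) (r : ℕ) : Bool :=
  decs.any fun e => Nat.blt e.1 D.nroots && Nat.blt e.2 D.nroots && !(Nat.beq e.2 e.1) &&
    !(Nat.beq e.2 (Tab.negR D e.1)) && !(Nat.beq e.2 r) && !(Nat.beq e.2 (Tab.negR D r)) &&
    cT T r e.1 &&
    (match T.commT r e.2 with
      | [w] => !(Nat.beq w.1 e.1) && !(Nat.beq e.1 (Tab.negR D w.1)) && (T.commT w.1 e.1).isEmpty
      | _ => false) &&
    (match (T.commT e.1 e.2).filter fun c => Nat.beq c.1 r with
      | [c] => Nat.beq c.2.1.natAbs 1 && (Nat.beq c.2.2.1 1 || Nat.beq c.2.2.2 1)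
      | _ => false) &&
    (T.commT e.1 e.2).all fun c => Nat.beq c.1 r ||
      (!(Nat.beq c.1 r) && !(Nat.beq c.1 (Tab.negR D r)) && (T.commT r c.1).isEmpty)

variable {T} {G : T.Good} {F : Type*} [Field F]

include G in
theorem nw_conj : ∀ (L : List (Fin D.rank)) {s : ℕ}, s < D.nroots → ∀ u : F,
    T.wordT (L.map Fin.val) s < D.nroots ∧
      G.full.nw F L * G.full.x s u * (G.full.nw F L)⁻¹ =
        G.full.x (T.wordT (L.map Fin.val) s) ((swSgn T (L.map Fin.val) s : F) * u) := by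
  intro L
  induction L with
  | nil => intro s hs u; simp [Tab.wordT, swSgn, Tab.Full.nw, hs]
  | cons i L ih =>
    intro s hs u
    obtain ⟨hl, e⟩ := ih hs u
    refine ⟨(G.full.reflT_spec i.isLt hl).1, ?_⟩
    rw [G.nw_cons, show G.full.ns F i * G.full.nw F L * G.full.x s u *
      (G.full.ns F i * G.full.nw F L)⁻¹ = G.full.ns F i *
        (G.full.nw F L * G.full.x s u * (G.full.nw F L)⁻¹) * (G.full.ns F i)⁻¹ by group, e,
      G.full.ns_conj i.isLt hl]
    simp [Tab.wordT, swSgn, mul_assoc]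

namespace CentExt

variable {Γ : Type*} [Group Γ] (S : CentExt G F Γ)
include S

theorem π_pow_L {r : ℕ} (n : ℕ) : S.π (S.L r 1 ^ n) = G.full.x r (n : F) := by
  induction n with
  | zero => simp [G.full.x_zero]
  | succ n ih => rw [pow_succ, map_mul, ih, S.π_L, G.full.x_add, Nat.cast_succ]

/-- Over a prime field lifts of a root subgroup commute. -/
theorem ab_prime (hp : ∀ a : F, ∃ n : ℕ, (n : F) = a) {r : ℕ} {t u : F} {g h : Γ}
    (hg : S.π g = G.full.x r t) (hh : S.π h = G.full.x r u) : Commute g h := by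
  obtain ⟨n, rfl⟩ := hp t
  obtain ⟨m, rfl⟩ := hp u
  rw [← commutatorElement_eq_one_iff_commute,
    S.comm_congr (hg.trans (S.π_pow_L n).symm) (hh.trans (S.π_pow_L m).symm),
    commutatorElement_eq_one_iff_commute]
  exact Commute.pow_pow_self _ n m

/-- Interchanged commuting roots over the field with three elements. -/
theorem commute_swap (hp : ∀ a : F, ∃ n : ℕ, (n : F) = a) (h3 : (3 : F) = 0) {r s : ℕ}
    (hr : r < D.nroots) (hs : s < D.nroots) (hne : s ≠ r) (hn : s ≠ Tab.negR D r)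
    (hc : T.commT r s = []) {Ln : List ℕ} (hL : chkSwap T r s Ln = true) {t u : F} {g h : Γ}
    (hg : S.π g = G.full.x r t) (hh : S.π h = G.full.x s u) : Commute g h := by
  obtain ⟨n, rfl⟩ := hp t
  obtain ⟨m, rfl⟩ := hp u
  suffices key : Commute (S.L r 1) (S.L s 1) by
    rw [← commutatorElement_eq_one_iff_commute,
      S.comm_congr (hg.trans (S.π_pow_L n).symm) (hh.trans (S.π_pow_L m).symm),
      commutatorElement_eq_one_iff_commute]
    exact key.pow_pow n m
  simp only [chkSwap, Bool.and_eq_true, List.all_eq_true, Nat.blt_eq, Nat.beq_eq,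
    decide_eq_true_eq] at hL
  obtain ⟨⟨⟨hLn, hLr⟩, hLs⟩, hsg⟩ := hL
  set a := S.L r 1
  set b := S.L s 1
  set z := ⁅a, b⁆ with hzdef
  have hzc : z ∈ Subgroup.center Γ := S.central (by
    rw [MonoidHom.mem_ker, map_commutatorElement, S.π_L, S.π_L,
      commutatorElement_eq_one_iff_commute]
    exact x_pair_commute (G := G) hr hs hne hn hc 1 1)
  have hz := Subgroup.mem_center_iff.1 hzc
  have hpow : ∀ k : ℕ, ⁅a ^ k, b⁆ = z ^ k := by
    intro k
    induction k with
    | zero => simp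
    | succ k ih =>
      rw [pow_succ' a k, show ⁅a * a ^ k, b⁆ = a * ⁅a ^ k, b⁆ * a⁻¹ * ⁅a, b⁆ by
        simp only [commutatorElement_def]; group, ih,
        ((show Commute a z from hz a).pow_right k).eq, mul_inv_cancel_right, ← hzdef, pow_succ]
  have hz3 : z ^ 3 = 1 := by
    have h1 : a ^ 3 ∈ Subgroup.center Γ := S.central (by
      rw [MonoidHom.mem_ker, S.π_pow_L, Nat.cast_ofNat, h3, G.full.x_zero])
    rw [← hpow, commutatorElement_eq_one_iff_mul_comm]
    exact (Subgroup.mem_center_iff.1 h1 b).symm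
  let L : List (Fin D.rank) := Ln.pmap (fun i hi => (⟨i, hi⟩ : Fin D.rank)) hLn
  have hLv : L.map Fin.val = Ln := by simp [L, List.map_pmap]
  obtain ⟨N, hN⟩ : ∃ N, S.π N = G.full.nw F L := by
    have : G.full.nw F L ∈ S.π.range := list_prod_mem fun x hx => by
      obtain ⟨i, -, rfl⟩ := List.mem_map.1 hx
      exact mul_mem (mul_mem (S.lifts _ _) (S.lifts _ _)) (S.lifts _ _)
    exact this
  have hconj : ∀ {c : ℕ}, c < D.nroots →
      S.π (N * S.L c 1 * N⁻¹) = G.full.x (T.wordT Ln c) ((swSgn T Ln c : ℤ) : F) := fun {c} hcl => by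
    rw [map_mul, map_mul, map_inv, hN, S.π_L, (nw_conj (G := G) L hcl 1).2, hLv, mul_one]
  have hfix : N * z * N⁻¹ = z := by rw [hz N, mul_inv_cancel_right]
  rw [hzdef, conjugate_commutatorElement, ← hzdef] at hfix
  have h2 : z = z⁻¹ := by
    rcases Int.eq_one_or_neg_one_of_mul_eq_one hsg with e | e <;>
      rw [e] at hsg <;> simp only [one_mul, neg_mul, mul_one] at hsg
    · rw [S.comm_congr (a' := b) (b' := a)
        ((hconj hr).trans (by rw [hLr, e, Int.cast_one, S.π_L]))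
        ((hconj hs).trans (by rw [hLs, hsg, Int.cast_one, S.π_L]))] at hfix
      rw [← commutatorElement_inv a b, ← hzdef] at hfix
      exact hfix.symm
    · have e' : swSgn T Ln s = -1 := by omega
      rw [S.comm_congr (a' := b⁻¹) (b' := a⁻¹)
        ((hconj hr).trans (by rw [hLr, e, map_inv, S.π_L, G.full.x_inv, Int.cast_neg, Int.cast_one]))
        ((hconj hs).trans (by rw [hLs, e', map_inv, S.π_L, G.full.x_inv, Int.cast_neg, Int.cast_one]))]
        at hfix
      conv_lhs => rw [← hfix]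
      have e3 : a * b = z * (b * a) := by rw [hzdef, commutatorElement_def]; group
      rw [show ⁅b⁻¹, a⁻¹⁆ = (a * b)⁻¹ * (b * a) by simp only [commutatorElement_def]; group, e3]
      rw [show z * (b * a) = b * a * z from (hz _).symm]
      group
  have : z = 1 := by
    have h4 : z ^ 2 = 1 := by rw [sq]; exact inv_eq_iff_mul_eq_one.1 h2.symm
    rw [pow_succ, h4, one_mul] at hz3
    exact hz3
  exact commutatorElement_eq_one_iff_commute.1 this

/-- Lifts of `r = a + b` commute with one another. -/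
theorem commute_self {decs : List (ℕ × ℕ)} {r : ℕ} (hr : r < D.nroots)
    (hcom : ∀ r < D.nroots, ∀ s < D.nroots, s ≠ r → s ≠ Tab.negR D r → T.commT r s = [] →
      ∀ {t u : F} {g h : Γ}, S.π g = G.full.x r t → S.π h = G.full.x s u → Commute g h)
    (hchk : chkSelf T decs r = true) {t u : F} {g h : Γ}
    (hg : S.π g = G.full.x r t) (hh : S.π h = G.full.x r u) : Commute g h := by
  simp only [chkSelf, List.any_eq_true, Bool.and_eq_true, Nat.blt_eq, List.all_eq_true,
    Bool.not_eq_true', Bool.or_eq_true, List.isEmpty_iff, Nat.beq_eq] at hchk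
  obtain ⟨⟨a, b⟩, -, ⟨⟨⟨⟨⟨⟨⟨⟨⟨ha, hb⟩, hba⟩, hbn⟩, hbr⟩, hbnr⟩, hra⟩, hrb⟩, hfil⟩, hall⟩⟩ := hchk
  simp only at ha hb hba hbn hbr hbnr hra hrb hfil hall
  split at hrb
  swap
  · exact absurd hrb (by simp)
  rename_i w hw
  simp only [Bool.and_eq_true, Bool.not_eq_true', List.isEmpty_iff] at hrb
  obtain ⟨⟨hwa, hwn⟩, hwc⟩ := hrb
  have hwl : w.1 < D.nroots := commT_lt G hr hb (by rw [hw]; simp)
  split at hfil
  swap
  · exact absurd hfil (by simp)
  rename_i c₀ hc₀
  simp only [Bool.and_eq_true, Bool.or_eq_true, Nat.beq_eq] at hfil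
  obtain ⟨hC1, hij⟩ := hfil
  have hmem : c₀ ∈ (T.commT a b).filter fun c => Nat.beq c.1 r := by rw [hc₀]; simp
  obtain ⟨-, hc₀e⟩ := List.mem_filter.1 hmem
  have hc₀r : c₀.1 = r := Nat.eq_of_beq_eq_true hc₀e
  have hC : (c₀.2.1 : F) ≠ 0 := by
    rcases Int.natAbs_eq c₀.2.1 with e1 | e1 <;> rw [hC1] at e1 <;> rw [e1] <;> simp
  obtain ⟨p, q, hpq⟩ : ∃ p q : F, (c₀.2.1 : F) * (-p) ^ c₀.2.2.1 * q ^ c₀.2.2.2 = t := by
    rcases hij with e1 | e1
    · exact ⟨-(t / (c₀.2.1 : F)), 1, by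
        rw [e1, pow_one, neg_neg, one_pow, mul_one, mul_div_cancel₀ _ hC]⟩
    · exact ⟨-1, t / (c₀.2.1 : F), by
        rw [e1, neg_neg, one_pow, mul_one, pow_one, mul_div_cancel₀ _ hC]⟩
  let φ : (ℕ × ℤ × ℕ × ℕ) → Γ := fun c =>
    S.L c.1 ((c.2.1 : F) * (-p) ^ c.2.2.1 * q ^ c.2.2.2)
  set X := ⁅S.L b (-q), S.L a (-p)⁆ with hXdef
  have hπ : S.π X = S.π ((T.commT a b).map φ).prod := by
    rw [map_commutatorElement, S.π_L, S.π_L,
      x_commutator (G := G) ha hb (beq_false' hba) (beq_false' hbn), map_list_prod, List.map_map]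
    simp only [rhsWord, List.map_map, neg_neg]
    exact congrArg List.prod (List.map_congr_left fun c _ => (S.π_L _ _).symm)
  -- conjugation by a lift of `r`
  set z : F := (w.2.1 : F) * u ^ w.2.2.1 * (-q) ^ w.2.2.2 with hzdef
  have hA : S.π (h * S.L a (-p) * h⁻¹) = S.π (S.L a (-p)) := by
    rw [map_mul, map_mul, map_inv, hh, S.π_L, (x_cT (G := G) hr ha hra u (-p)).eq,
      mul_inv_cancel_right]
  have hB : S.π (h * S.L b (-q) * h⁻¹) = S.π (S.L b (-q) * S.L w.1 z) := by
    have e := G.full.x_comm hr hb (beq_false' hbr) (beq_false' hbnr) (-u) (-q)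
    rw [G.full.cert.commWord_eq hr hb, hw] at e
    simp only [rhsWord, List.map_cons, List.map_nil, List.prod_cons, List.prod_nil, mul_one,
      neg_neg] at e
    rw [← G.full.x_inv r u] at e
    rw [map_mul, map_mul, map_inv, hh, S.π_L, map_mul, S.π_L, S.π_L, hzdef, mul_assoc, e]
    group
  have hwcom : Commute (S.L w.1 z) (S.L a (-p)) :=
    hcom w.1 hwl a ha (Ne.symm (beq_false' hwa)) (beq_false' hwn) hwc (S.π_L _ _) (S.π_L _ _)
  have hX : h * X * h⁻¹ = X := by
    rw [conjugate_commutatorElement, S.comm_congr hB hA,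
      show ⁅S.L b (-q) * S.L w.1 z, S.L a (-p)⁆ =
        S.L b (-q) * ⁅S.L w.1 z, S.L a (-p)⁆ * (S.L b (-q))⁻¹ * ⁅S.L b (-q), S.L a (-p)⁆ by
          simp only [commutatorElement_def]; group,
      commutatorElement_eq_one_iff_commute.2 hwcom, mul_one, mul_inv_cancel, one_mul]
  have hprod : Commute h ((T.commT a b).map φ).prod := by
    obtain ⟨y, hy, e1⟩ := S.cen hπ.symm
    rw [e1]
    have hXc : Commute h X := mul_inv_eq_iff_eq_mul.1 hX
    exact hXc.mul_right (Subgroup.mem_center_iff.1 hy h)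
  have key := commute_factor _ φ (T.commT a b) hc₀ (fun c hc hne => by
    rcases hall c hc with h1 | ⟨⟨h1, h2⟩, h3⟩
    · rw [h1, Nat.beq_refl] at hne; exact Bool.noConfusion hne
    · exact hcom r hr _ (commT_lt G ha hb hc) (beq_false' h1) (beq_false' h2) h3 hh (S.π_L _ _))
    hprod
  have e2 : S.π g = S.π (φ c₀) := by
    show _ = S.π (S.L c₀.1 _)
    rw [S.π_L, hpq, hc₀r, hg]
  obtain ⟨y, hy, rfl⟩ := S.cen e2
  exact (key.mul_right (Subgroup.mem_center_iff.1 hy h)).symm

/-- The family of lifts over three elements. -/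
noncomputable def x3 (C : ThreeCfg) (k : ℕ) (t : F) : Γ :=
  match C.look k with
  | some ab => ⁅S.xt ab.1 (t / ((((T.commT ab.1 ab.2).map fun c => c.2.1).getD 0 0 : ℤ) : F)),
      S.xt ab.2 1⁆
  | none => S.xt k t

/-- Over three elements the checks lift Steinberg's relations. -/
theorem exists_hom_three (hp : ∀ a : F, ∃ n : ℕ, (n : F) = a) (h3 : (3 : F) = 0) (h2 : (2 : F) ≠ 0)
    {C : ThreeCfg} (hC : allBelow (chkThree T C) D.nroots = true) :
    ∃ τ : D.SteinbergCover F →* Γ,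
      ∀ r < D.nroots, ∀ t, S.π (τ (D.scGen F r t)) = G.full.x r t := by
  have hm : ∀ n, 1 ≤ n → n ≤ 1 → ∃ a : Fˣ, a ^ n ≠ 1 := fun n h1 h1' => by
    obtain rfl : n = 1 := by omega
    refine ⟨Units.mk0 2 h2, fun h => ?_⟩
    rw [pow_one, Units.ext_iff] at h
    exact one_ne_zero (show (1 : F) = 0 by
      simp only [Units.val_mk0, Units.val_one] at h
      linear_combination h)
  have hkill : ∀ {r s : ℕ}, chkKill T ⟨C.vs, [], [], [], 1, false⟩ r s = true → Kill T F r s :=
    fun {r s} h => kill_of_chk ⟨C.vs, [], [], [], 1, false⟩ hm h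
  have hall := fun r hr => (allBelow_iff _ _).1 hC r hr
  have hpair : ∀ r < D.nroots, ∀ s < D.nroots, s ≠ r → s ≠ Tab.negR D r →
      cond (T.commT r s).isEmpty
        (chkKill T ⟨C.vs, [], [], [], 1, false⟩ r s || C.sw.any fun L => chkSwap T r s L)
        ((chkKill T ⟨C.vs, [], [], [], 1, false⟩ r s && C.Ls.any fun L => chkTerms T r s L) ||
          chkSpecial T C r s) = true := fun r hr s hs e1 e2 => by
    have := hall r hr
    simp only [chkThree, Bool.and_eq_true, allBelow_iff, Bool.or_eq_true, Nat.beq_eq] at this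
    rcases this.2 s hs with (e | e) | e
    exacts [absurd e e1, absurd e e2, e]
  have com : ∀ r < D.nroots, ∀ s < D.nroots, s ≠ r → s ≠ Tab.negR D r → T.commT r s = [] →
      ∀ {t u : F} {g h : Γ}, S.π g = G.full.x r t → S.π h = G.full.x s u → Commute g h := by
    intro r hr s hs e1 e2 e3 t u g h hg hh
    have := hpair r hr s hs e1 e2
    simp only [e3, List.isEmpty_nil, cond_true, Bool.or_eq_true, List.any_eq_true] at this
    rcases this with e | ⟨L, -, e⟩
    · exact S.commute_of_kill hr hs e1 e2 e3 (hkill e) hg hh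
    · exact S.commute_swap hp h3 hr hs e1 e2 e3 e hg hh
  have hnone : ∀ r < D.nroots, C.look r = none → S.MvAb r := fun r hr e => by
    have := hall r hr
    simp only [chkThree, e, Bool.and_eq_true, List.any_eq_true] at this
    obtain ⟨v, -, hv⟩ := this.1
    obtain ⟨a, ha⟩ := exists_zpow_ne hm hv
    exact ⟨⟨dv v a, by rwa [chi_dv]⟩, fun hg hh => S.ab_prime hp hg hh⟩
  have hsome : ∀ r < D.nroots, ∀ ab, C.look r = some ab →
      ab.1 < D.nroots ∧ ab.2 < D.nroots ∧ C.look ab.1 = none ∧ C.look ab.2 = none ∧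
        ab.2 ≠ ab.1 ∧ ab.2 ≠ Tab.negR D ab.1 ∧ r ≠ ab.1 ∧ r ≠ Tab.negR D ab.1 ∧
        T.commT ab.1 r = [] ∧ r ≠ ab.2 ∧ r ≠ Tab.negR D ab.2 ∧ T.commT ab.2 r = [] ∧ ∃ M : ℤ, T.commT ab.1 ab.2 = [(r, M, 1, 1)] ∧ (M : F) ≠ 0 := by
    intro r hr ab e
    have := hall r hr
    simp only [chkThree, e, Bool.and_eq_true, Nat.blt_eq, Bool.not_eq_true', Option.isNone_iff_eq_none,
      List.isEmpty_iff] at this
    obtain ⟨⟨⟨⟨⟨⟨⟨⟨⟨⟨⟨⟨⟨h1, h1'⟩, h4⟩, h5⟩, h6⟩, h7⟩, h8⟩, h9⟩, h10⟩, h11⟩, h12⟩, h13⟩, hm'⟩, -⟩ := this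
    refine ⟨h1, h1', h4, h5, beq_false' h6, beq_false' h7, beq_false' h8, beq_false' h9, h10,
      beq_false' h11, beq_false' h12, h13, ?_⟩
    split at hm'
    swap
    · exact absurd hm' (by simp)
    rename_i c hc
    obtain ⟨k, M, i, j⟩ := c
    simp only [Bool.and_eq_true, Nat.beq_eq, Nat.blt_eq] at hm'
    obtain ⟨⟨⟨⟨rfl, rfl⟩, rfl⟩, hM3⟩, hM0⟩ := hm'
    refine ⟨M, hc, ?_⟩
    obtain h' | h' : M.natAbs = 1 ∨ M.natAbs = 2 := by omega
    all_goals rcases Int.natAbs_eq M with e' | e' <;> rw [h'] at e' <;> rw [e'] <;> simp [h2]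
  -- the bracket of two lifts with the given sum
  have hq : ∀ r < D.nroots, ∀ ab, C.look r = some ab → ∀ M : ℤ,
      T.commT ab.1 ab.2 = [(r, M, 1, 1)] →
      (∀ p q : F, S.π ⁅S.xt ab.1 p, S.xt ab.2 q⁆ = G.full.x r ((M : F) * p * q)) ∧
      (∀ p p' q : F, ⁅S.xt ab.1 p, S.xt ab.2 q⁆ * ⁅S.xt ab.1 p', S.xt ab.2 q⁆ =
        ⁅S.xt ab.1 (p + p'), S.xt ab.2 q⁆) ∧
      ∀ p q : F, ⁅S.xt ab.1 p, S.xt ab.2 q⁆ = ⁅S.xt ab.1 (p * q), S.xt ab.2 1⁆ := by
    intro r hr ab e M hM
    obtain ⟨h1, h1', h4, h5, h6, h7, h8, h9, h10, h11, h12, h13, -⟩ := hsome r hr ab e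
    have hA := hnone _ h1 h4
    have hB := hnone _ h1' h5
    have hπ : ∀ p q : F, S.π ⁅S.xt ab.1 p, S.xt ab.2 q⁆ = G.full.x r ((M : F) * p * q) := by
      intro p q
      rw [map_commutatorElement, π_xt hA h1, π_xt hB h1', ← commutatorElement_inv,
        x_commutator (G := G) h1 h1' h6 h7, hM]
      simp [rhsWord, G.full.x_inv]
    have hadd : ∀ p p' q : F, ⁅S.xt ab.1 p, S.xt ab.2 q⁆ * ⁅S.xt ab.1 p', S.xt ab.2 q⁆ =
        ⁅S.xt ab.1 (p + p'), S.xt ab.2 q⁆ := by
      intro p p' q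
      rw [add_comm p p', ← xt_add hA h1 p' p,
        show ⁅S.xt ab.1 p' * S.xt ab.1 p, S.xt ab.2 q⁆ = S.xt ab.1 p' *
          ⁅S.xt ab.1 p, S.xt ab.2 q⁆ * (S.xt ab.1 p')⁻¹ * ⁅S.xt ab.1 p', S.xt ab.2 q⁆ by
          simp only [commutatorElement_def]; group,
        (com ab.1 h1 r hr h8 h9 h10 (π_xt hA h1 p') (hπ p q)).eq, mul_inv_cancel_right]
    refine ⟨hπ, hadd, fun p q => ?_⟩
    obtain ⟨n, rfl⟩ := hp q
    induction n with
    | zero =>
      rw [Nat.cast_zero, mul_zero, xt_zero hB h1', xt_zero hA h1, commutatorElement_one_right,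
        commutatorElement_one_left]
    | succ n ih =>
      rw [Nat.cast_succ, mul_add, mul_one, ← hadd, ← xt_add hB h1' (n : F) 1,
        show ⁅S.xt ab.1 p, S.xt ab.2 n * S.xt ab.2 1⁆ = ⁅S.xt ab.1 p, S.xt ab.2 n⁆ *
          (S.xt ab.2 n * ⁅S.xt ab.1 p, S.xt ab.2 1⁆ * (S.xt ab.2 n)⁻¹) by
          simp only [commutatorElement_def]; group, ih]
      congr 1
      rw [(com ab.2 h1' r hr h11 h12 h13 (π_xt hB h1' (n : F)) (hπ p 1)).eq, mul_inv_cancel_right]
  have hsingle : ∀ r < D.nroots, ∀ ab, C.look r = some ab → ∃ M : ℤ, (M : F) ≠ 0 ∧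
      T.commT ab.1 ab.2 = [(r, M, 1, 1)] ∧
        ∀ t, S.x3 C r t = ⁅S.xt ab.1 (t / (M : F)), S.xt ab.2 1⁆ := by
    intro r hr ab e
    obtain ⟨-, -, -, -, -, -, -, -, -, -, -, -, M, hM, hM0⟩ := hsome r hr ab e
    exact ⟨M, hM0, hM, fun t => by simp [x3, e, hM]⟩
  let X : S.Fam :=
    { x := S.x3 C
      π_x := fun r hr t => by
        cases e : C.look r with
        | none => simp only [x3, e]; exact π_xt (hnone r hr e) hr t
        | some ab =>
          obtain ⟨M, hM0, hM, hx⟩ := hsingle r hr ab e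
          rw [hx, (hq r hr ab e M hM).1, mul_one, mul_div_cancel₀ _ hM0]
      add := fun r hr t u => by
        cases e : C.look r with
        | none => simp only [x3, e]; exact xt_add (hnone r hr e) hr t u
        | some ab =>
          obtain ⟨M, hM0, hM, hx⟩ := hsingle r hr ab e
          rw [hx, hx, hx, (hq r hr ab e M hM).2.1, add_div]
      conj := fun r hr d t => by
        cases e : C.look r with
        | none => simp only [x3, e]; exact xt_conj (hnone r hr e) hr d t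
        | some ab =>
          obtain ⟨M, hM0, hM, hx⟩ := hsingle r hr ab e
          obtain ⟨h1, h1', h4, h5, -⟩ := hsome r hr ab e
          obtain ⟨hπ, -, hprod⟩ := hq r hr ab e M hM
          have e1 : S.H d * ⁅S.xt ab.1 (t / (M : F)), S.xt ab.2 1⁆ * (S.H d)⁻¹ =
              ⁅S.xt ab.1 ((T.chi ab.1 d : F) * (t / (M : F))), S.xt ab.2 ((T.chi ab.2 d : F) * 1)⁆ := by
            rw [conjugate_commutatorElement, xt_conj (hnone _ h1 h4) h1, xt_conj (hnone _ h1' h5) h1']
          have e2 := congrArg S.π e1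
          rw [S.π_conj_H d hr (hπ _ _), hπ] at e2
          have e3 := G.x_inj hr e2
          rw [hx, hx, e1, hprod]
          congr 2
          rw [eq_div_iff hM0]
          rw [mul_one, mul_div_cancel₀ _ hM0] at e3
          linear_combination -e3 }
  refine X.exists_hom ⟨com, fun r hr s hs e1 e2 e3 => ?_⟩
  have := hpair r hr s hs e1 e2
  simp only [List.isEmpty_eq_false_iff.2 e3, cond_false, Bool.or_eq_true, Bool.and_eq_true,
    List.any_eq_true] at this
  rcases this with ⟨e, L, -, hL⟩ | e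
  · exact Or.inl ⟨hkill e, L, hL⟩
  refine Or.inr ?_
  simp only [chkSpecial] at e
  split at e
  swap
  · exact absurd e (by simp)
  rename_i c hc
  obtain ⟨k, N, i, j⟩ := c
  simp only [Bool.and_eq_true, Nat.beq_eq] at e
  obtain ⟨⟨rfl, rfl⟩, e⟩ := e
  split at e
  swap
  · exact absurd e (by simp)
  rename_i ab hab
  have hk : k < D.nroots := commT_lt G hr hs (c := (k, N, 1, 1)) (by rw [hc]; simp)
  obtain ⟨M, hM0, hM, hx⟩ := hsingle k hk ab hab
  obtain ⟨h1, h1', h4, h5, -⟩ := hsome k hk ab hab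
  obtain ⟨hπ, -, hprod⟩ := hq k hk ab hab M hM
  intro t u
  have hrhs : X.rhs r s t u = X.x k ((N : F) * -t * u) := by
    simp [Fam.rhs, hc, rhsWord]
  have hπl := X.π_lhs hr hs e1 e2 t u
  rw [hrhs, X.π_x k hk] at hπl
  rw [hrhs]
  -- it suffices that the left side is a value of the family
  obtain ⟨v, hv⟩ : ∃ v, X.lhs r s t u = X.x k v := by
    have hval : ∀ p q : F, ⁅S.xt ab.1 p, S.xt ab.2 q⁆ = X.x k ((M : F) * (p * q)) := fun p q => by
      show _ = S.x3 C k _
      rw [hprod, hx, mul_div_cancel_left₀ _ hM0]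
    have hxt : ∀ c < D.nroots, C.look c = none → ∀ v, X.x c v = S.xt c v := fun c _ e v => by
      show S.x3 C c v = _
      simp [x3, e]
    have hlhs : X.lhs r s t u = ⁅(X.x s u)⁻¹, (X.x r t)⁻¹⁆ := by
      simp [Fam.lhs, commutatorElement_def]
    rw [hlhs, X.x_inv hs, X.x_inv hr]
    simp only [Bool.or_eq_true, Bool.and_eq_true, Nat.beq_eq] at e
    rcases e with ⟨rfl, rfl⟩ | ⟨rfl, rfl⟩
    · refine ⟨-((M : F) * (-t * -u)), ?_⟩
      rw [hxt _ h1 h4, hxt _ h1' h5, ← commutatorElement_inv, hval, X.x_inv hk]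
    · exact ⟨_, by rw [hxt _ h1 h4, hxt _ h1' h5, hval]⟩
  rw [hv, X.π_x k hk] at hπl
  rw [hv, G.x_inj hk hπl]

end CentExt

end CfsgLib.ChevMult
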