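/-
Certificates for lifting Steinberg's relations of type D4 by the torus (generated from the tables).
-/
import Cfsg.Agent.ChevMult.TorPairs
import Cfsg.Agent.Chev.DataD4

set_option autoImplicit false

namespace CfsgLib.ChevMult.D4Tor

open CfsgLib.Chev Cfsg.Lie

/-- fields with more than three elements -/
def cfg : TorCfg where
  vs := [[-1, 0, -1, 0], [-1, 0, 0, -1], [-1, 0, 0, 1], [-1, -2, -1, 0]]
  Ls := [[], [3, 1, 2, 0, 1, 3, 0, 1, 2, 0, 1, 0]]
  decs := [(0, 1, 9), (1, 0, 14), (2, 0, 15), (3, 0, 16), (4, 0, 17), (5, 1, 17), (6, 0, 19), (7, 0, 20), (8, 0, 21), (9, 0, 22), (10, 1, 20), (11, 1, 21), (12, 2, 22), (13, 3, 22), (14, 1, 23), (15, 2, 23), (16, 3, 23), (17, 4, 23), (18, 6, 22), (19, 6, 23), (20, 7, 23), (21, 8, 23), (22, 9, 23), (23, 14, 22)]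
  U := [1]
  m := 2
  sc := false

theorem cfg_ok :
    allBelow (chkTor D4Data.tab cfg) 24 = true := by
  decide +kernel

end CfsgLib.ChevMult.D4Tor
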