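/-
Certificates for the small fields (generated from the tables), and finiteness of the cover.
-/
import Cfsg.Agent.ChevMult.SmallCases
import Cfsg.Agent.ChevMult.TorB2
import Cfsg.Agent.ChevMult.TorD4
import Cfsg.Agent.ChevMult.FinishCyclic

set_option autoImplicit false

namespace CfsgLib.ChevMult

open Cfsg.Lie CfsgLib.Chev

/-- B2 over three elements. -/
def b2Three : ThreeCfg where
  vs := [[0, -1], [-1, -1]]
  Ls := B2Tor.cfg.Ls
  sw := [[0], [1, 0, 1]]
  ks := [(0, 1, 2), (3, 1, 5), (4, 2, 6), (7, 5, 6)]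

theorem b2Three_ok : allBelow (chkThree B2Data.tab b2Three) 8 = true := by
  decide +kernel

/-- D4 over three elements. -/
def d4Three : ThreeCfg where
  vs := [[-1, 0, 0, 0], [0, -1, 0, 0], [-1, -1, 0, 0], [0, 0, -1, 0], [0, -1, -1, 0]]
  Ls := D4Tor.cfg.Ls
  sw := [[2, 0], [3, 0], [3, 2], [1, 2, 0, 1, 3, 1, 2, 0, 1, 0], [1, 2, 0, 1, 3, 0, 1, 2, 0, 1],
    [3, 1, 2, 0, 1, 3, 1, 2, 0, 1], [1, 2, 0, 1], [1, 3, 0, 1], [1, 3, 2, 1],
    [2, 0, 1, 3, 1, 2, 1, 0], [2, 0, 1, 3, 0, 1, 2, 0], [3, 1, 2, 0, 1, 3, 2, 0]]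
  ks := []

theorem d4Three_ok : allBelow (chkThree D4Data.tab d4Three) 24 = true := by
  decide +kernel

/-- Decompositions of the short roots of B2. -/
def b2Self : List (ℕ × ℕ) := [(0, 5), (0, 6), (3, 6), (4, 5)]

theorem b2Self_ok : allBelow (fun r =>
    !(B2Tor.cfg.vs.any fun v => Nat.beq (dotv B2Data.tab v r).natAbs 1) ||
      chkSelf B2Data.tab b2Self r) 8 = true := by
  decide +kernel

universe u

variable {D : ChevalleyDatum} {T : Tab D} (G : T.Good) {F : Type u} [Field F]

/-- The kernel of the cover is finite. -/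
theorem finite_scθ_ker [Finite F] (hW : T.HasWit)
    (hD : D ∈ [chevG2, chevB2, chevD4, chevF4, chevE6, chevE7, chevE8]) :
    Finite (G.scθ F).ker := by
  let S := G.scData (G.scθ F) (fun r t hr => G.coe_scθ hr t)
  obtain ⟨e, he⟩ := cover_iso (K := F) hD
  have hhb : ∀ (j : Fin D.rank) (t u : Fˣ),
      S.hb j (t : F) * S.hb j (u : F) = S.hb j ((t * u : Fˣ) : F) := fun j t u => by
    refine e.injective ?_
    have key : ∀ v : F, e (S.hb j v) =
        (G.stData (G.stθ F) fun r t hr => G.coe_stθ hr t).hb j v := fun v => by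
      simp [Tab.Good.StData.hb, Tab.Good.StData.nb, S, Tab.Good.scData, Tab.Good.stData, he]
    rw [map_mul, key, key, key, G.st_hb_mul]
  let φ : Fin D.rank → Fˣ →* D.SteinbergCover F := fun j =>
    MonoidHom.mk' (fun t => S.hb j (t : F)) (fun t u => (hhb j t u).symm)
  let H : (Fin D.rank → Fˣ) →* D.SteinbergCover F :=
    MonoidHom.noncommPiCoprod φ fun i j _ t u => S.hb_commute hW hhb i j t u
  have hle : (G.scθ F).ker ≤ H.range := fun g hg => by
    have hHB : S.HB ≤ H.range := by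
      rw [Tab.Good.StData.HB, Subgroup.closure_le]
      rintro _ ⟨j, t, rfl⟩
      exact ⟨_, MonoidHom.noncommPiCoprod_mulSingle _ _ _⟩
    exact hHB (S.ker_le_HB hW (congrArg Subtype.val (MonoidHom.mem_ker.1 hg)))
  have : Finite H.range := Finite.of_surjective H.rangeRestrict H.rangeRestrict_surjective
  exact Finite.of_injective _ (Subgroup.inclusion_injective hle)

include G in
/-- Multiplier of the presented group, without separate finiteness. -/
theorem st_trivial_of_lift' [Fintype F]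
    (hD : D ∈ [chevG2, chevB2, chevD4, chevF4, chevE6, chevE7, chevE8]) (hW : T.HasWit)
    (hperf : commutator (D.SteinbergCover F) = ⊤)
    (hlift : ∀ (Γ : Type u) [Group Γ] (S : CentExt G F Γ), ∃ τ : D.SteinbergCover F →* Γ,
      ∀ r < D.nroots, ∀ t, S.π (τ (D.scGen F r t)) = G.full.x r t) :
    Cfsg.HasCyclicSchurMultiplier (D.SteinbergGroup F) 1 :=
  st_trivial_of_lift G hD hW hperf (finite_cover G (finite_scθ_ker G hW hD)) hlift

theorem natCast_surj_of_card_three [Fintype F] (h : Fintype.card F = 3) :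
    ∀ a : F, ∃ n : ℕ, (n : F) = a := by
  have : Fact (Nat.Prime 3) := ⟨Nat.prime_three⟩
  intro a
  refine ⟨((ZMod.ringEquivOfPrime F Nat.prime_three h).symm a).val, ?_⟩
  rw [← map_natCast (ZMod.ringEquivOfPrime F Nat.prime_three h), ZMod.natCast_zmod_val,
    RingEquiv.apply_symm_apply]

theorem three_eq_zero_of_card_three [Fintype F] (h : Fintype.card F = 3) : (3 : F) = 0 := by
  have := Nat.cast_card_eq_zero F
  rwa [h, Nat.cast_ofNat] at this

end CfsgLib.ChevMult
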