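/-
Small powers and small integers in finite fields.
-/
import Mathlib.FieldTheory.Finite.Basic
import Mathlib.RingTheory.IntegralDomain

set_option autoImplicit false

namespace CfsgLib.ChevMult

variable {F : Type*} [Field F] [Fintype F]

theorem exists_pow_ne_of_card {n : ℕ} (h1 : 1 ≤ n) (h2 : n + 1 < Fintype.card F) :
    ∃ a : Fˣ, a ^ n ≠ 1 := by
  classical
  obtain ⟨g, hg⟩ := IsCyclic.exists_generator (α := Fˣ)
  refine ⟨g, fun h => ?_⟩
  have h3 := Nat.le_of_dvd h1 (orderOf_dvd_of_pow_eq_one h)
  rw [orderOf_eq_card_of_forall_mem_zpowers hg, Nat.card_units, Nat.card_eq_fintype_card] at h3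
  omega

theorem two_ne_zero_of_card_three (h : Fintype.card F = 3) : (2 : F) ≠ 0 := by
  intro e
  have h3 : (3 : F) = 0 := by
    have := Nat.cast_card_eq_zero F
    rw [h] at this
    exact_mod_cast this
  exact one_ne_zero (show (1 : F) = 0 by linear_combination h3 - e)

theorem exists_finset_four_lt (h : 5 ≤ Fintype.card F) : ∃ s : Finset F, 4 < s.card :=
  ⟨Finset.univ, by rw [Finset.card_univ]; omega⟩

end CfsgLib.ChevMult
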