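/-
The centre of the cover of type E6, by the embedding in type E7 (generated from the tables).
-/
import Cfsg.Agent.ChevMult.Center
import Cfsg.Agent.Chev.GoodAll

set_option autoImplicit false

namespace CfsgLib.ChevMult

open CfsgLib.Chev Cfsg.Lie

/-- The embedding of the roots. -/
def ioE6 : List ℕ := [6, 10, 13, 15, 16, 19, 21, 22, 24, 25, 26, 28, 29, 30, 31, 32, 35, 37, 38, 40, 41, 42, 44, 45, 46, 47, 49, 50, 51, 52, 54, 55, 56, 58, 59, 61, 64, 66, 67, 69, 70, 71, 73, 74, 75, 76, 78, 79, 80, 81, 83, 84, 85, 87, 88, 90, 93, 94, 95, 96, 97, 99, 100, 101, 103, 104, 106, 109, 110, 112, 115, 119]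

/-- The certificate for the kernel. -/
def kerE6 : KerCert where
  d := 3
  p := 0
  w := [1, 0, 2, 0, 1, 2]
  M := [[0, 0, 0, 0, 0, 0], [1, 2, 2, 3, 2, 1], [-1, 0, 0, 0, 0, 0], [2, 3, 4, 6, 4, 2], [0, 1, 1, 2, 2, 1], [-2, -1, -2, -2, -1, 0]]
  N := [4, 3, 5, 6, 4, 2]
  M' := [[-2, -4, -5, -8, -7, -6, -5], [-3, -4, -6, -9, -8, -7, -6], [-1, -2, -2, -4, -4, -4, -4], [-2, -3, -4, -6, -6, -6, -6], [-2, -3, -4, -6, -5, -5, -5], [-2, -3, -4, -6, -5, -4, -4]]

theorem embE6 : chkEmb E6Data.tab E7Data.tab ioE6 = true := by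
  decide +kernel

theorem kerE6_ok : chkKer E6Data.tab E7Data.tab kerE6 = true := by
  decide +kernel

end CfsgLib.ChevMult
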