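/-
The centre of the cover of type E7, by the embedding in type E8 (generated from the tables).
-/
import Cfsg.Agent.ChevMult.Center
import Cfsg.Agent.Chev.GoodAll

set_option autoImplicit false

namespace CfsgLib.ChevMult

open CfsgLib.Chev Cfsg.Lie

/-- The embedding of the roots. -/
def ioE7 : List ℕ := [13, 20, 25, 29, 32, 34, 35, 39, 42, 44, 45, 48, 50, 51, 53, 54, 55, 58, 60, 61, 63, 64, 65, 67, 68, 69, 70, 72, 73, 74, 75, 76, 77, 80, 82, 83, 85, 86, 87, 89, 90, 91, 92, 94, 95, 96, 97, 98, 100, 101, 102, 103, 104, 106, 107, 108, 109, 111, 112, 113, 115, 116, 118, 121, 123, 124, 126, 127, 128, 130, 131, 132, 133, 135, 136, 137, 138, 139, 141, 142, 143, 144, 145, 147, 148, 149, 150, 152, 153, 154, 156, 157, 159, 162, 163, 164, 165, 166, 167, 169, 170, 171, 172, 174, 175, 176, 178, 179, 181, 184, 185, 186, 188, 189, 191, 194, 195, 197, 200, 204, 205, 207, 210, 214, 219, 226]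

/-- The certificate for the kernel. -/
def kerE7 : KerCert where
  d := 2
  p := 1
  w := [0, 1, 0, 0, 1, 0, 1]
  M := [[2, 2, 3, 4, 3, 2, 1], [0, 0, 0, 0, 0, 0, 0], [3, 4, 6, 8, 6, 4, 2], [4, 6, 8, 12, 9, 6, 3], [1, 1, 2, 3, 3, 2, 1], [2, 3, 4, 6, 5, 4, 2], [-1, -2, -2, -3, -2, -1, 0]]
  N := [4, 7, 8, 12, 9, 6, 3]
  M' := [[-4, -7, -9, -14, -12, -10, -8, -6], [-3, -4, -6, -9, -8, -7, -6, -5], [-3, -5, -6, -10, -9, -8, -7, -6], [-2, -3, -4, -6, -6, -6, -6, -6], [-2, -3, -4, -6, -5, -5, -5, -5], [-4, -6, -8, -12, -10, -8, -7, -6], [-4, -6, -8, -12, -10, -8, -6, -5]]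

theorem embE7 : chkEmb E7Data.tab E8Data.tab ioE7 = true := by
  decide +kernel

theorem kerE7_ok : chkKer E7Data.tab E8Data.tab kerE7 = true := by
  decide +kernel

end CfsgLib.ChevMult
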