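/-
The centre of the presented groups of types E6 and E7.
-/
import Cfsg.Agent.ChevMult.FinishCyclic

set_option autoImplicit false

namespace CfsgLib.ChevMult

open Cfsg.Lie CfsgLib.Chev

universe u

variable {D : ChevalleyDatum} {T : Tab D} (G : T.Good) {F : Type u} [Field F]

include G in
theorem card_center_st [Fintype F]
    (hD : D ∈ [chevG2, chevB2, chevD4, chevF4, chevE6, chevE7, chevE8]) (hW : T.HasWit)
    {d : ℕ} (f : ↥(G.scθ F).ker ≃* ↥(powMonoidHom d : Fˣ →* Fˣ).ker) :
    Nat.card (Subgroup.center (D.SteinbergGroup F)) = Nat.gcd d (Fintype.card F - 1) := by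
  obtain ⟨e, -⟩ := cover_iso (K := F) hD
  have h1 : (G.scθ F).ker = Subgroup.center (D.SteinbergCover F) := by
    rw [← (G.scData (G.scθ F) fun r t hr => G.coe_scθ hr t).ker_eq_center hW]
    ext g
    simp [Tab.Good.scData, MonoidHom.mem_ker, OneMemClass.coe_eq_one]
  have h2 : Nat.card (Subgroup.center (D.SteinbergGroup F)) =
      Nat.card (Subgroup.center (D.SteinbergCover F)) :=
    Nat.card_congr (Subgroup.centerCongr e).symm.toEquiv
  rw [h2, ← h1, Nat.card_congr f.toEquiv, IsCyclic.card_powMonoidHom_ker, Nat.card_units,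
    Nat.card_eq_fintype_card, Nat.gcd_comm]

end CfsgLib.ChevMult
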