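/-
Certificates for the central extensions of type E7 (generated from the tables).
-/
import Cfsg.Agent.ChevMult.DataE7

set_option autoImplicit false

namespace CfsgLib.ChevMult.E7Pure

open CfsgLib.Chev Cfsg.Lie

theorem rs_0 : allBlock (fun r => allBelow (chkRS E7Data.tab cert r) 126) 0 42 = true := by
  decide +kernel

theorem rs_1 : allBlock (fun r => allBelow (chkRS E7Data.tab cert r) 126) 42 42 = true := by
  decide +kernel

theorem rs_2 : allBlock (fun r => allBelow (chkRS E7Data.tab cert r) 126) 84 42 = true := by
  decide +kernel

end CfsgLib.ChevMult.E7Pure
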