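/-
Certificates for the central extensions of type E8 (generated from the tables).
-/
import Cfsg.Agent.ChevMult.DataE8

set_option autoImplicit false

namespace CfsgLib.ChevMult.E8Pure

open CfsgLib.Chev Cfsg.Lie

theorem rs_4 : allBlock (fun r => allBelow (chkRS E8Data.tab cert r) 240) 80 20 = true := by
  decide +kernel

theorem rs_5 : allBlock (fun r => allBelow (chkRS E8Data.tab cert r) 240) 100 20 = true := by
  decide +kernel

theorem rs_6 : allBlock (fun r => allBelow (chkRS E8Data.tab cert r) 240) 120 20 = true := by
  decide +kernel

theorem rs_7 : allBlock (fun r => allBelow (chkRS E8Data.tab cert r) 240) 140 20 = true := by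
  decide +kernel

end CfsgLib.ChevMult.E8Pure
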