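/-
Finite central extensions with kernel of order prime to the characteristic satisfy Steinberg's
relations.
-/
import Cfsg.Agent.ChevMult.Base
import Cfsg.Agent.Chev.Card
import Cfsg.Agent.Chev.DataG2
import Cfsg.Agent.Chev.DataB2
import Cfsg.Agent.Chev.DataD4
import Cfsg.Agent.Chev.DataF4
import Mathlib.GroupTheory.Nilpotent
import Mathlib.FieldTheory.Finite.Basic

set_option autoImplicit false

namespace CfsgLib.ChevMult

open Cfsg.Lie CfsgLib.Chev
open scoped commutatorElement MatrixGroups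

variable {D : ChevalleyDatum} (T : Tab D)

/-- Any two roots which are not opposite become positive together under one of the words. -/
def chkPosWords (Ls : List (List ℕ)) : Bool :=
  Ls.all (fun L => L.all fun i => Nat.blt i D.rank) &&
  allBelow (fun r => allBelow (fun s => Nat.beq s (Tab.negR D r) || Ls.any fun L =>
    Nat.ble D.nroots (Nat.mul 2 (T.wordT L r)) && Nat.ble D.nroots (Nat.mul 2 (T.wordT L s)))
    D.nroots) D.nroots

variable {T} {G : T.Good} {F : Type*} [Field F]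

include G in
theorem exists_pos_words {Ls : List (List ℕ)} (h : chkPosWords T Ls = true) {r s : ℕ}
    (hr : r < D.nroots) (hs : s < D.nroots) (hn : s ≠ Tab.negR D r) :
    ∃ L : List (Fin D.rank),
      r ∈ Tab.posSet (G.full.pw L) ∧ s ∈ Tab.posSet (G.full.pw L) := by
  simp only [chkPosWords, Bool.and_eq_true, List.all_eq_true, Nat.blt_eq, allBelow_iff,
    Bool.or_eq_true, Nat.beq_eq, List.any_eq_true, Nat.ble_eq] at h
  obtain ⟨hLs, hall⟩ := h
  rcases hall r hr s hs with e | ⟨Ln, hmem, h1, h2⟩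
  · exact absurd e hn
  let L : List (Fin D.rank) :=
    Ln.pmap (fun i hi => (⟨i, hi⟩ : Fin D.rank)) (hLs Ln hmem)
  have hLv : L.map Fin.val = Ln := by simp [L, List.map_pmap]
  refine ⟨L, ⟨hr, Fin.isLt _, ?_⟩, ⟨hs, Fin.isLt _, ?_⟩⟩
  · rw [G.pw_apply, hLv]; exact h1
  · rw [G.pw_apply, hLv]; exact h2

include G in
/-- The unipotent subgroup of a word is a `p`-group. -/
theorem isPGroup_US [Finite F] {p : ℕ} [hp : Fact p.Prime] [CharP F p] (L : List (Fin D.rank)) :
    IsPGroup p (G.US F (Tab.posSet (G.full.pw L))) := by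
  classical
  have : Fintype F := Fintype.ofFinite F
  obtain ⟨n, -, hq⟩ := FiniteField.card F p
  have hU : ∃ m : ℕ, Nat.card (G.US F {s | Tab.IsPos D s}) = p ^ m :=
    ⟨n * (D.nroots / 2), by rw [G.card_US G.closed_pos, G.card_pos, Nat.card_eq_fintype_card, hq, ← pow_mul]⟩
  obtain ⟨m, hm⟩ := hU
  rintro ⟨g, hg⟩
  refine ⟨m, Subtype.ext ?_⟩
  have hmem : G.full.nw F L * g * (G.full.nw F L)⁻¹ ∈ G.US F {s | Tab.IsPos D s} :=
    G.conj_x_act (G.rootAct_nw (F := F) L) (fun s hs => by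
      obtain ⟨hlt, h1⟩ := hs
      exact ⟨hlt, h1⟩) hg
  have e := pow_card_eq_one' (x := (⟨_, hmem⟩ : G.US F {s | Tab.IsPos D s}))
  rw [hm, Subtype.ext_iff] at e
  simp only [SubmonoidClass.coe_pow, conj_pow, OneMemClass.coe_one] at e
  simp only [SubmonoidClass.coe_pow, OneMemClass.coe_one]
  exact conj_eq_one_iff.1 e

namespace CentExt

variable {Γ : Type*} [Group Γ] (S : CentExt G F Γ)
include S

/-- Lifts of order prime power give the relations when the kernel has no `p`-torsion. -/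
theorem exists_hom_coprime [Finite Γ] [Finite F] {p : ℕ} [hp : Fact p.Prime] [CharP F p]
    {Ls : List (List ℕ)} (hLs : chkPosWords T Ls = true)
    (htor : ∀ z : Γ, S.π z = 1 → z ^ p = 1 → z = 1) :
    ∃ τ : D.SteinbergCover F →* Γ,
      ∀ r < D.nroots, ∀ t, S.π (τ (D.scGen F r t)) = G.full.x r t := by
  classical
  set c := Nat.card S.π.ker
  have hc : Nat.Coprime c p := by
    rw [Nat.coprime_comm, hp.out.coprime_iff_not_dvd]
    intro h
    obtain ⟨⟨z, hz⟩, hord⟩ := exists_prime_orderOf_dvd_card' (G := S.π.ker) p h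
    have h1 := pow_orderOf_eq_one (⟨z, hz⟩ : S.π.ker)
    rw [hord, Subtype.ext_iff] at h1
    have : (⟨z, hz⟩ : S.π.ker) = 1 :=
      Subtype.ext (htor z (MonoidHom.mem_ker.1 hz) (by simpa using h1))
    rw [this, orderOf_one] at hord
    exact hp.out.one_lt.ne hord
  set e := c ^ (p - 1)
  have heF : (e : F) = 1 := by
    have := Nat.ModEq.pow_totient hc
    rw [Nat.totient_prime hp.out] at this
    exact_mod_cast (CharP.natCast_eq_natCast F p).2 this
  have hker : ∀ z : Γ, S.π z = 1 → z ^ e = 1 := fun z hz => by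
    have h1 := pow_card_eq_one' (x := (⟨z, MonoidHom.mem_ker.2 hz⟩ : S.π.ker))
    rw [Subtype.ext_iff] at h1
    obtain ⟨k, hk⟩ : c ∣ e := dvd_pow_self c (by have := hp.out.two_le; omega)
    rw [hk, pow_mul, show z ^ c = 1 from h1, one_pow]
  have hxpow : ∀ (r : ℕ) (t : F) (n : ℕ), G.full.x r t ^ n = G.full.x r ((n : F) * t) := by
    intro r t n
    induction n with
    | zero => simp [G.full.x_zero]
    | succ n ih => rw [pow_succ, ih, G.full.x_add, Nat.cast_succ, add_mul, one_mul]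
  let X : ℕ → F → Γ := fun r t => S.L r t ^ e
  have hπX : ∀ r t, S.π (X r t) = G.full.x r t := fun r t => by
    rw [map_pow, S.π_L, hxpow, heF, one_mul]
  have hXp : ∀ r t, X r t ^ p = 1 := fun r t => by
    show (S.L r t ^ e) ^ p = 1
    rw [← pow_mul, mul_comm, pow_mul]
    exact hker _ (by rw [map_pow, S.π_L, hxpow, CharP.cast_eq_zero, zero_mul, G.full.x_zero])
  -- equality of products with all roots in one positive system
  have key : ∀ (L : List (Fin D.rank)) (a b : Γ),
      a ∈ Subgroup.closure {g | ∃ r ∈ Tab.posSet (G.full.pw L), ∃ t, g = X r t} →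
      b ∈ Subgroup.closure {g | ∃ r ∈ Tab.posSet (G.full.pw L), ∃ t, g = X r t} →
      S.π a = S.π b → a = b := by
    intro L
    set U := G.US F (Tab.posSet (G.full.pw L))
    set H := U.comap S.π
    have : Group.IsNilpotent U := (isPGroup_US (p := p) L).isNilpotent
    let f : H →* U := (S.π.comp H.subtype).codRestrict U fun h => h.2
    have hnil : Group.IsNilpotent H := Subgroup.isNilpotent_of_ker_le_center f (fun h hh => by
      rw [Subgroup.mem_center_iff]
      intro g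
      exact Subtype.ext (Subgroup.mem_center_iff.1
        (S.central (MonoidHom.mem_ker.2 (congrArg Subtype.val (MonoidHom.mem_ker.1 hh)))) g.1))
    obtain ⟨P⟩ : Nonempty (Sylow p H) := inferInstance
    have hnorm : (P : Subgroup H).Normal := inferInstance
    have hP : ∀ h : H, h ^ p = 1 → h ∈ (P : Subgroup H) := fun h hh => by
      have hpg : IsPGroup p (Subgroup.zpowers h) := by
        rintro ⟨g, hg⟩
        obtain ⟨k, rfl⟩ := Subgroup.mem_zpowers_iff.1 hg
        refine ⟨1, Subtype.ext ?_⟩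
        show (h ^ k) ^ (p ^ 1) = 1
        rw [pow_one, ← zpow_natCast, ← zpow_mul, mul_comm, zpow_mul, zpow_natCast, hh, one_zpow]
      obtain ⟨Q, hQ⟩ := hpg.exists_le_sylow
      have : Unique (Sylow p H) := Sylow.unique_of_normal P hnorm
      rw [Subsingleton.elim Q P] at hQ
      exact hQ (Subgroup.mem_zpowers h)
    intro a b ha hb hab
    have hle : Subgroup.closure {g | ∃ r ∈ Tab.posSet (G.full.pw L), ∃ t, g = X r t} ≤
        (P : Subgroup H).map H.subtype := by
      rw [Subgroup.closure_le]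
      rintro _ ⟨r, hr, t, rfl⟩
      have hm : X r t ∈ H := by
        show S.π _ ∈ U
        rw [hπX]
        exact G.x_mem_US hr t
      exact ⟨⟨_, hm⟩, hP _ (Subtype.ext (hXp r t)), rfl⟩
    obtain ⟨z, hz, hzab⟩ := hle (mul_mem ha (inv_mem hb))
    have hz1 : S.π z.1 = 1 := by
      rw [show z.1 = a * b⁻¹ from hzab, map_mul, map_inv, hab, mul_inv_cancel]
    obtain ⟨k, hk⟩ := P.2 ⟨z, hz⟩
    have hk' : z.1 ^ p ^ k = 1 := congrArg (fun x : (P : Subgroup H) => x.1.1) hk
    have : ∀ (j : ℕ) (w : Γ), S.π w = 1 → w ^ p ^ j = 1 → w = 1 := by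
      intro j
      induction j with
      | zero => intro w _ h; simpa using h
      | succ j ih =>
        intro w hw h
        refine htor w hw (ih (w ^ p) (by rw [map_pow, hw, one_pow]) ?_)
        rwa [← pow_mul, ← pow_succ']
    have := this k z.1 hz1 hk'
    rw [show z.1 = a * b⁻¹ from hzab] at this
    exact mul_inv_eq_one.1 this
  have hin : ∀ (L : List (Fin D.rank)) r, r ∈ Tab.posSet (G.full.pw L) → ∀ t,
      X r t ∈ Subgroup.closure {g | ∃ r ∈ Tab.posSet (G.full.pw L), ∃ t, g = X r t} :=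
    fun L r hr t => Subgroup.subset_closure ⟨r, hr, t, rfl⟩
  refine S.exists_hom X (fun r _ t => hπX r t) (fun r hr t u => ?_)
    fun r hr s hs hne hn t u => ?_
  · obtain ⟨L, hL, -⟩ := exists_pos_words (G := G) hLs hr hr (fun h => by
      have := G.full.cert.negR_ne hr; omega)
    exact key L _ _ (mul_mem (hin L r hL t) (hin L r hL u)) (hin L r hL _)
      (by rw [map_mul, hπX, hπX, hπX, G.full.x_add])
  · obtain ⟨L, hLr, hLs'⟩ := exists_pos_words (G := G) hLs hr hs hn
    refine key L _ _ (mul_mem (mul_mem (mul_mem (inv_mem (hin L s hLs' u))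
      (inv_mem (hin L r hLr t))) (hin L s hLs' u)) (hin L r hLr t))
      (list_prod_mem fun g hg => ?_) ?_
    · simp only [rhsWord, List.map_map, List.mem_map, Function.comp_apply] at hg
      obtain ⟨c, hc, rfl⟩ := hg
      obtain ⟨h, hpos, -⟩ := G.comm_pw L hLr hLs' hc
      exact hin L c.1 ⟨h, hpos⟩ _
    · have h := G.full.x_comm hr hs hne hn t u
      rw [G.full.cert.commWord_eq hr hs] at h
      rw [map_mul, map_mul, map_mul, map_inv, map_inv, hπX, hπX, map_list_prod, List.map_map,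
        show (rhsWord (T.commT r s) t u).map (S.π ∘ fun q => X q.1 q.2) =
          (rhsWord (T.commT r s) t u).map fun q => G.full.x q.1 q.2 from
          List.map_congr_left fun q _ => hπX _ _, mul_assoc, h]
      group

end CentExt

/-- Positive systems for G2. -/
theorem posWords_G2 : chkPosWords G2Data.tab [[], [1, 0, 1, 0, 1, 0], [0, 1, 0], [1, 0, 1], [0], [1],
    [1, 0, 1, 0], [0, 1, 0, 1], [1, 0], [0, 1], [0, 1, 0, 1, 0], [1, 0, 1, 0, 1]] = true := by
  decide +kernel

/-- Positive systems for B2. -/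
theorem posWords_B2 : chkPosWords B2Data.tab [[], [1, 0, 1, 0], [1, 0], [0, 1], [0], [1], [0, 1, 0],
    [1, 0, 1]] = true := by
  decide +kernel

/-- Positive systems for D4. -/
theorem posWords_D4 : chkPosWords D4Data.tab [[], [3, 1, 2, 0, 1, 3, 0, 1, 2, 0, 1, 0],
    [0, 1, 2, 0, 1, 0], [3, 1, 2, 0, 1, 3], [0, 1, 3, 0, 1, 0], [2, 1, 3, 0, 1, 2], [1, 3, 2, 0],
    [1, 3, 2, 1], [1, 3, 2, 0, 1, 0], [1, 0], [0, 1]] = true := by
  decide +kernel

/-- Positive systems for F4. -/
theorem posWords_F4 : chkPosWords F4Data.tab [[],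
    [3, 2, 1, 2, 0, 1, 2, 3, 2, 1, 2, 0, 1, 2, 3, 2, 1, 2, 0, 1, 2, 0, 1, 0],
    [1, 2, 3, 2, 1, 2, 0, 1, 2, 0, 1, 0], [2, 0, 1, 2, 3, 2, 1, 2, 0, 1, 2, 3],
    [3, 2, 1, 2, 0, 1, 2, 3, 2, 0, 1, 0], [2, 1, 2, 0, 1, 2, 3, 1, 2, 0, 1, 2],
    [2, 1, 2, 0, 1, 2, 3, 2, 1, 2, 0], [3, 2, 1, 2, 0, 1, 2, 3, 0, 1, 2, 0, 1],
    [2, 1, 2, 0, 1, 2, 3, 0, 1, 2, 0], [2, 1, 2, 0, 1, 2, 3, 2, 1, 2, 0, 1],
    [3, 2, 1, 2, 0, 1, 2, 3, 2, 1, 2, 0, 1, 2], [1, 2, 0, 1, 2, 3, 1], [0, 1, 2, 1, 0],
    [1, 2, 0, 1, 2, 3, 2, 1, 2, 0, 1, 2, 3, 2, 1, 2]] = true := by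
  decide +kernel

end CfsgLib.ChevMult
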