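/-
Certificates for the central extensions of type E7 (generated from the tables).
-/
import Cfsg.Agent.ChevMult.CertE7

set_option autoImplicit false

namespace CfsgLib.ChevMult.E7Pure

open CfsgLib.Chev Cfsg.Lie

theorem pref_all : allBelow (chkPref E7Data.tab cert) 126 = true := by
  decide +kernel

theorem ok : PureOK E7Data.tab cert := by
  refine ⟨fun r hr s hs => ?_, fun k hk => (allBelow_iff _ _).1 pref_all k hk⟩
  replace hr : r < 126 := hr
  rcases Nat.lt_or_ge r 42 with h | h
  · exact (allBelow_iff _ _).1 (allBlock_apply rs_0 r (by omega) h) s hs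
  rcases Nat.lt_or_ge r 84 with h | h
  · exact (allBelow_iff _ _).1 (allBlock_apply rs_1 r (by omega) h) s hs
  rcases Nat.lt_or_ge r 126 with h | h
  · exact (allBelow_iff _ _).1 (allBlock_apply rs_2 r (by omega) h) s hs
  omega

end CfsgLib.ChevMult.E7Pure
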