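/-
Certificates for the central extensions of type E8 (generated from the tables).
-/
import Cfsg.Agent.ChevMult.CertE8A
import Cfsg.Agent.ChevMult.CertE8B
import Cfsg.Agent.ChevMult.CertE8C

set_option autoImplicit false

namespace CfsgLib.ChevMult.E8Pure

open CfsgLib.Chev Cfsg.Lie

theorem pref_all : allBelow (chkPref E8Data.tab cert) 240 = true := by
  decide +kernel

theorem ok : PureOK E8Data.tab cert := by
  refine ⟨fun r hr s hs => ?_, fun k hk => (allBelow_iff _ _).1 pref_all k hk⟩
  replace hr : r < 240 := hr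
  rcases Nat.lt_or_ge r 20 with h | h
  · exact (allBelow_iff _ _).1 (allBlock_apply rs_0 r (by omega) h) s hs
  rcases Nat.lt_or_ge r 40 with h | h
  · exact (allBelow_iff _ _).1 (allBlock_apply rs_1 r (by omega) h) s hs
  rcases Nat.lt_or_ge r 60 with h | h
  · exact (allBelow_iff _ _).1 (allBlock_apply rs_2 r (by omega) h) s hs
  rcases Nat.lt_or_ge r 80 with h | h
  · exact (allBelow_iff _ _).1 (allBlock_apply rs_3 r (by omega) h) s hs
  rcases Nat.lt_or_ge r 100 with h | h
  · exact (allBelow_iff _ _).1 (allBlock_apply rs_4 r (by omega) h) s hs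
  rcases Nat.lt_or_ge r 120 with h | h
  · exact (allBelow_iff _ _).1 (allBlock_apply rs_5 r (by omega) h) s hs
  rcases Nat.lt_or_ge r 140 with h | h
  · exact (allBelow_iff _ _).1 (allBlock_apply rs_6 r (by omega) h) s hs
  rcases Nat.lt_or_ge r 160 with h | h
  · exact (allBelow_iff _ _).1 (allBlock_apply rs_7 r (by omega) h) s hs
  rcases Nat.lt_or_ge r 180 with h | h
  · exact (allBelow_iff _ _).1 (allBlock_apply rs_8 r (by omega) h) s hs
  rcases Nat.lt_or_ge r 200 with h | h
  · exact (allBelow_iff _ _).1 (allBlock_apply rs_9 r (by omega) h) s hs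
  rcases Nat.lt_or_ge r 220 with h | h
  · exact (allBelow_iff _ _).1 (allBlock_apply rs_10 r (by omega) h) s hs
  rcases Nat.lt_or_ge r 240 with h | h
  · exact (allBelow_iff _ _).1 (allBlock_apply rs_11 r (by omega) h) s hs
  omega

end CfsgLib.ChevMult.E8Pure
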