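/-
Certificates for lifting Steinberg's relations of type F4 by the torus (generated from the tables).
-/
import Cfsg.Agent.ChevMult.TorPairs
import Cfsg.Agent.Chev.DataF4

set_option autoImplicit false

namespace CfsgLib.ChevMult.F4Tor

open CfsgLib.Chev Cfsg.Lie

/-- fields with more than three elements -/
def cfg : TorCfg where
  vs := [[-1, 0, 0, 0], [0, -1, 0, 0], [-1, -1, -2, 0], [0, -1, -2, -2], [-1, -2, -2, -1], [0, 0, -1, 0]]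
  Ls := [[], [3, 2, 1, 2, 0, 1, 2, 3, 2, 1, 2, 0, 1, 2, 3, 2, 1, 2, 0, 1, 2, 0, 1, 0], [1, 2, 0, 1, 2, 0, 1, 0], [2, 3, 2, 1, 2, 0, 1, 2, 3, 2], [1, 2, 3, 0, 1, 0], [2, 1]]
  decs := [(0, 1, 23), (1, 0, 24), (2, 0, 26), (3, 7, 14), (4, 0, 31), (5, 0, 32), (6, 0, 29), (7, 3, 33), (8, 3, 34), (9, 3, 35), (10, 3, 36), (11, 3, 37), (12, 3, 38), (13, 3, 39), (14, 3, 40), (15, 0, 42), (16, 0, 43), (17, 0, 36), (18, 7, 37), (19, 7, 38), (20, 7, 39), (21, 0, 45), (22, 0, 38), (23, 0, 46), (24, 1, 47), (25, 0, 39), (26, 1, 39), (27, 8, 40), (28, 9, 40), (29, 10, 40), (30, 0, 40), (31, 1, 40), (32, 2, 40), (33, 7, 44), (34, 8, 44), (35, 9, 44), (36, 10, 44), (37, 11, 44), (38, 12, 44), (39, 13, 44), (40, 14, 44), (41, 0, 44), (42, 1, 44), (43, 2, 44), (44, 33, 40), (45, 4, 44), (46, 5, 44), (47, 6, 44)]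
  U := [1]
  m := 2
  sc := false

theorem cfg_ok :
    allBelow (chkTor F4Data.tab cfg) 48 = true := by
  decide +kernel

/-- fields where two is invertible -/
def cfg₁ : TorCfg where
  vs := [[0, 0, -1, 0], [0, -1, -1, 0], [0, 0, 0, -1], [-1, -1, -2, -1], [-1, -1, -1, 0], [-1, 0, 0, 1]]
  Ls := [[], [3, 2, 1, 2, 0, 1, 2, 3, 2, 1, 2, 0, 1, 2, 3, 2, 1, 2, 0, 1, 2, 0, 1, 0], [1, 2, 0, 1, 2, 0, 1, 0], [2, 3, 2, 1, 2, 0, 1, 2, 3, 2], [1, 2, 3, 0, 1, 0], [2, 1]]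
  decs := [(0, 1, 23), (0, 3, 18), (0, 7, 11), (1, 0, 24), (1, 3, 19), (1, 7, 12), (2, 0, 26), (2, 3, 20), (2, 7, 13), (3, 7, 14), (4, 0, 31), (4, 3, 27), (4, 8, 14), (5, 0, 32), (5, 3, 28), (5, 9, 14), (6, 0, 29), (6, 3, 29), (6, 10, 14), (7, 3, 33), (8, 3, 34), (9, 3, 35), (10, 3, 36), (11, 3, 37), (12, 3, 38), (13, 3, 39), (14, 3, 40), (15, 0, 42), (15, 7, 34), (15, 8, 33), (16, 0, 43), (16, 7, 35), (16, 9, 33), (17, 0, 36), (17, 7, 36), (17, 10, 33), (18, 7, 37), (19, 7, 38), (20, 7, 39), (21, 0, 45), (21, 8, 37), (21, 11, 34), (22, 0, 38), (22, 8, 38), (22, 12, 34), (23, 0, 46), (23, 9, 37), (23, 11, 35), (24, 1, 47), (24, 10, 38), (24, 12, 36), (25, 0, 39), (25, 9, 39), (25, 13, 35), (26, 1, 39), (26, 10, 39), (26, 13, 36), (27, 8, 40), (28, 9, 40), (29, 10, 40), (30, 0, 40), (30, 11, 40), (30, 14, 37), (31, 1, 40), (31, 12, 40), (31, 14, 38), (32, 2, 40), (32,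 13, 40), (32, 14, 39), (33, 7, 44), (34, 8, 44), (35, 9, 44), (36, 10, 44), (37, 11, 44), (38, 12, 44), (39, 13, 44), (40, 14, 44), (41, 0, 44), (41, 18, 44), (41, 33, 37), (42, 1, 44), (42, 19, 44), (42, 33, 38), (43, 2, 44), (43, 20, 44), (43, 33, 39), (44, 33, 40), (45, 4, 44), (45, 27, 44), (45, 34, 40), (46, 5, 44), (46, 28, 44), (46, 35, 40), (47, 6, 44), (47, 29, 44), (47, 36, 40)]
  U := [1, 2]
  m := 1
  sc := false

theorem cfg₁_ok :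
    allBelow (chkTor F4Data.tab cfg₁) 48 = true := by
  decide +kernel

end CfsgLib.ChevMult.F4Tor
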