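/-
Certificates for lifting Steinberg's relations of type G2 by the torus (generated from the tables).
-/
import Cfsg.Agent.ChevMult.TorPairs
import Cfsg.Agent.Chev.DataG2

set_option autoImplicit false

namespace CfsgLib.ChevMult.G2Tor

open CfsgLib.Chev Cfsg.Lie

/-- fields with more than four elements -/
def cfg : TorCfg where
  vs := [[0, -1], [-1, -1], [-1, 0], [-1, -2], [-1, -3]]
  Ls := [[], [1, 0, 1, 0, 1], [0, 1, 0], [0, 1], [1, 0, 1, 0]]
  decs := []
  U := [1]
  m := 3
  sc := true

theorem cfg_ok :
    allBelow (chkTor G2Data.tab cfg) 12 = true := by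
  decide +kernel

end CfsgLib.ChevMult.G2Tor
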