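/-
Universality of the group presented by (R1), (R2).
-/
import Cfsg.Agent.ChevMult.Base
import Cfsg.Agent.ChevMult.TorG2
import Cfsg.Agent.ChevMult.TorB2
import Cfsg.Agent.ChevMult.TorD4
import Cfsg.Agent.ChevMult.TorF4
import Cfsg.Agent.ChevMult.OkE6
import Cfsg.Agent.ChevMult.OkE7
import Cfsg.Agent.ChevMult.OkE8
import Cfsg.Agent.Chev.SteinbergPerf

set_option autoImplicit false

namespace CfsgLib.ChevMult

open Cfsg.Lie CfsgLib.Chev
open scoped commutatorElement MatrixGroups

theorem commutator_congr {H : Type*} [Group H] {a a' b b' z w : H} (ha : a = a' * z) (hb : b = b' * w)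
    (hz : z ∈ Subgroup.center H) (hw : w ∈ Subgroup.center H) : ⁅a, b⁆ = ⁅a', b'⁆ := by
  subst ha hb
  have h1 : ∀ g, z * g * z⁻¹ = g := fun g => by
    rw [← Subgroup.mem_center_iff.1 hz g, mul_inv_cancel_right]
  have h2 : ∀ g, w * g * w⁻¹ = g := fun g => by
    rw [← Subgroup.mem_center_iff.1 hw g, mul_inv_cancel_right]
  rw [commutatorElement_def, commutatorElement_def,
    show a' * z * (b' * w) * (a' * z)⁻¹ * (b' * w)⁻¹ =
      a' * (z * (b' * w) * z⁻¹) * a'⁻¹ * (b' * w)⁻¹ by group, h1,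
    show a' * (b' * w) * a'⁻¹ * (b' * w)⁻¹ = a' * b' * (w * a'⁻¹ * w⁻¹) * b'⁻¹ by group, h2]

/-- Homomorphisms from a perfect group which agree modulo the centre are equal. -/
theorem hom_eq_of_central {A H : Type*} [Group A] [Group H] (hA : commutator A = ⊤) {f g : A →* H}
    (h : ∀ a, (g a)⁻¹ * f a ∈ Subgroup.center H) : f = g := by
  have hle : commutator A ≤ f.eqLocus g := by
    rw [commutator_def, Subgroup.commutator_le]
    intro a _ b _
    show f ⁅a, b⁆ = g ⁅a, b⁆
    rw [map_commutatorElement, map_commutatorElement]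
    exact commutator_congr (by group) (by group) (h a) (h b)
  rw [hA] at hle
  exact MonoidHom.ext fun a => hle (Subgroup.mem_top a)

universe v

variable {D : ChevalleyDatum} {T : Tab D} (G : T.Good) {K : Type*} [Field K]

include G in
theorem lift_unique (hW : T.HasWit) (hperf : commutator (D.SteinbergCover K) = ⊤)
    {G₁ E : Type*} [Group G₁] [Group E]
    (hlift : ∀ (Γ : Subgroup (D.SteinbergCover K × E)) (S : CentExt G K Γ),
      ∃ τ : D.SteinbergCover K →* Γ,
        ∀ r < D.nroots, ∀ t, S.π (τ (D.scGen K r t)) = G.full.x r t)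
    (π₁ : E →* G₁) (hπ : Function.Surjective π₁) (hc : π₁.ker ≤ Subgroup.center E)
    (σ : D.SteinbergCover K →* G₁) :
    ∃! τ : D.SteinbergCover K →* E, π₁.comp τ = σ := by
  let Δ := D.SteinbergCover K
  let S₀ := G.scData (G.scθ K) (fun r t hr => G.coe_scθ hr t)
  let P : Subgroup (Δ × E) :=
    (σ.comp (MonoidHom.fst Δ E)).eqLocus (π₁.comp (MonoidHom.snd Δ E))
  let p₁ : P →* Δ := (MonoidHom.fst Δ E).comp P.subtype
  have hp₁ : ∀ d : Δ, ∃ g : P, p₁ g = d := fun d => by
    obtain ⟨e, he⟩ := hπ (σ d)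
    exact ⟨⟨(d, e), he.symm⟩, rfl⟩
  have hker : ∀ g : P, p₁ g = 1 → g ∈ Subgroup.center P := by
    rintro ⟨⟨d, e⟩, hde⟩ h
    change d = 1 at h
    subst h
    have he : e ∈ Subgroup.center E := hc (by
      rw [MonoidHom.mem_ker]
      exact (show σ 1 = π₁ e from hde).symm.trans σ.map_one)
    rw [Subgroup.mem_center_iff]
    rintro ⟨⟨d', e'⟩, -⟩
    refine Subtype.ext (Prod.ext ?_ ?_)
    · show d' * 1 = 1 * d'
      rw [mul_one, one_mul]
    · exact Subgroup.mem_center_iff.1 he e'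
  have hdec : ∀ g : P, ∃ c ∈ commutator P, ∃ z, p₁ z = 1 ∧ g = c * z := fun g => by
    have h1 : p₁ g ∈ (commutator P).map p₁ := by
      rw [commutator_def, Subgroup.map_commutator, ← MonoidHom.range_eq_map,
        MonoidHom.range_eq_top.2 hp₁, ← commutator_def, hperf]
      exact Subgroup.mem_top _
    obtain ⟨c, hc', e⟩ := h1
    exact ⟨c, hc', c⁻¹ * g, by rw [map_mul, map_inv, e, inv_mul_cancel], by group⟩
  have hcen : ∀ k : P, S₀.θ (p₁ k) = 1 → k ∈ Subgroup.center P := by
    intro k hk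
    have hk1 := Subgroup.mem_center_iff.1 (S₀.ker_le_center hW (MonoidHom.mem_ker.2 hk))
    have hcz : ∀ g, ⁅k, g⁆ ∈ Subgroup.center P := fun g => hker _ (by
      rw [map_commutatorElement, commutatorElement_eq_one_iff_mul_comm]
      exact (hk1 (p₁ g)).symm)
    let φ : P →* P := MonoidHom.mk' (fun g => ⁅k, g⁆) fun a b => by
      show ⁅k, a * b⁆ = ⁅k, a⁆ * ⁅k, b⁆
      rw [show ⁅k, a * b⁆ = ⁅k, a⁆ * (a * ⁅k, b⁆ * a⁻¹) by
        simp only [commutatorElement_def]; group, Subgroup.mem_center_iff.1 (hcz b) a,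
        mul_inv_cancel_right]
    have hle : commutator P ≤ φ.ker := by
      rw [commutator_def, Subgroup.commutator_le]
      intro a _ b _
      rw [MonoidHom.mem_ker, map_commutatorElement, commutatorElement_eq_one_iff_mul_comm]
      exact Subgroup.mem_center_iff.1 (hcz b) (φ a)
    rw [Subgroup.mem_center_iff]
    intro g
    obtain ⟨c, hc', z, hz, rfl⟩ := hdec g
    have hkc : c * k = k * c :=
      (commutatorElement_eq_one_iff_mul_comm.1 (MonoidHom.mem_ker.1 (hle hc'))).symm
    have hzk := Subgroup.mem_center_iff.1 (hker z hz) k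
    calc c * z * k = c * (k * z) := by rw [mul_assoc, hzk]
      _ = k * (c * z) := by rw [← mul_assoc, hkc, mul_assoc]
  let S : CentExt G K P :=
    { π := S₀.θ.comp p₁
      central := fun k hk => hcen k hk
      lifts := fun r t => by
        obtain ⟨g, hg⟩ := hp₁ (D.scGen K r t)
        exact ⟨g, by rw [MonoidHom.comp_apply, hg]; exact S₀.θ_x r t⟩ }
  obtain ⟨τ, hτ⟩ := hlift P S
  have hid : p₁.comp τ = MonoidHom.id Δ := by
    refine hom_eq_of_central hperf fun a => S₀.ker_le_center hW ?_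
    have h : S₀.θ.comp (p₁.comp τ) = S₀.θ := by
      refine MonoidHom.eq_of_eqOn_dense S₀.gen ?_
      rintro _ ⟨r, hr, t, rfl⟩
      exact (hτ r hr t).trans (S₀.θ_x r t).symm
    rw [MonoidHom.mem_ker, map_mul, map_inv, MonoidHom.id_apply, inv_mul_eq_one]
    exact (DFunLike.congr_fun h a).symm
  refine ⟨(MonoidHom.snd Δ E).comp (P.subtype.comp τ), ?_, fun τ' hτ' => ?_⟩
  · refine MonoidHom.ext fun a => ?_
    have h : σ (τ a).1.1 = π₁ (τ a).1.2 := (τ a).2
    rw [show (τ a).1.1 = a from DFunLike.congr_fun hid a] at h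
    exact h.symm
  · refine hom_eq_of_central hperf fun a => hc ?_
    rw [MonoidHom.mem_ker, map_mul, map_inv, inv_mul_eq_one]
    have h : σ (τ a).1.1 = π₁ (τ a).1.2 := (τ a).2
    rw [show (τ a).1.1 = a from DFunLike.congr_fun hid a] at h
    exact h.symm.trans (DFunLike.congr_fun hτ' a).symm

end CfsgLib.ChevMult
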