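/-
Projective representations in the natural characteristic lift to the cover.
-/
import Cfsg.Agent.ChevMult.Universal
import Cfsg.Agent.ChevMult.FinishCyclic
import Mathlib.GroupTheory.Schreier
import Mathlib.LinearAlgebra.Matrix.GeneralLinearGroup.Basic

set_option autoImplicit false

namespace CfsgLib.ChevMult

open Cfsg.Lie CfsgLib.Chev
open scoped commutatorElement MatrixGroups

variable {D : ChevalleyDatum} {T : Tab D} (G : T.Good) {K : Type*} [Field K]

include G in
/-- The lift of a projective representation, given the lifting of relations for the extensions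
which arise. -/
theorem projective_lift (hperf : commutator (D.SteinbergCover K) = ⊤)
    (θ : D.SteinbergCover K →* ↥(D.group K))
    (hθ : ∀ (r : ℕ) (t : K), r < D.nroots →
      ((θ (D.scGen K r t) : GL D.Idx K) : Matrix D.Idx D.Idx K) = D.x K r t)
    {L : Type*} [Field L] (hL : ringChar L = ringChar K) {n : ℕ}
    (φ : ↥(D.group K) →* GL (Fin n) L ⧸ Subgroup.center (GL (Fin n) L))
    (hlift : ∀ (Γ : Subgroup (↥(D.group K) × GL (Fin n) L)) (S : CentExt G K Γ),
      (Finite K → Finite Γ) →
      (∀ p : ℕ, p.Prime → CharP K p → ∀ z, S.π z = 1 → z ^ p = 1 → z = 1) →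
      ∃ τ : D.SteinbergCover K →* Γ,
        ∀ r < D.nroots, ∀ t, S.π (τ (D.scGen K r t)) = G.full.x r t) :
    ∃! ψ : D.SteinbergCover K →* GL (Fin n) L,
      (QuotientGroup.mk' (Subgroup.center (GL (Fin n) L))).comp ψ = φ.comp θ := by
  set Z := Subgroup.center (GL (Fin n) L)
  set mk := QuotientGroup.mk' Z
  let P : Subgroup (↥(D.group K) × GL (Fin n) L) :=
    (φ.comp (MonoidHom.fst _ _)).eqLocus (mk.comp (MonoidHom.snd _ _))
  let Γ : Subgroup (↥(D.group K) × GL (Fin n) L) := ⁅P, P⁆
  have hΓP : Γ ≤ P := by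
    rw [Subgroup.commutator_le]
    intro a ha b hb
    exact mul_mem (mul_mem (mul_mem ha hb) (inv_mem ha)) (inv_mem hb)
  have hGperf : commutator ↥(D.group K) = ⊤ := by
    rw [eq_top_iff]
    rintro g -
    obtain ⟨x, rfl⟩ := scθ_surjective G g
    have : x ∈ commutator (D.SteinbergCover K) := hperf ▸ Subgroup.mem_top x
    have := Subgroup.mem_map_of_mem (G.scθ K) this
    rw [commutator_def, Subgroup.map_commutator] at this
    exact Subgroup.commutator_mono le_top le_top this
  have hPsurj : ∀ g : ↥(D.group K), ∃ e, (g, e) ∈ P := fun g => by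
    obtain ⟨e, he⟩ := QuotientGroup.mk'_surjective Z (φ g)
    exact ⟨e, he.symm⟩
  have hΓsurj : ∀ g : ↥(D.group K), ∃ e, (g, e) ∈ Γ := fun g => by
    have : g ∈ Γ.map (MonoidHom.fst _ _) := by
      have e : P.map (MonoidHom.fst ↥(D.group K) (GL (Fin n) L)) = ⊤ := by
        rw [eq_top_iff]
        rintro a -
        obtain ⟨e, he⟩ := hPsurj a
        exact ⟨_, he, rfl⟩
      rw [Subgroup.map_commutator, e, ← commutator_def, hGperf]
      exact Subgroup.mem_top g
    obtain ⟨⟨a, e⟩, h, rfl⟩ := this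
    exact ⟨e, h⟩
  have hker : ∀ {g : ↥(D.group K)} {e : GL (Fin n) L}, (g, e) ∈ P → g = 1 → e ∈ Z := by
    intro g e h hg
    subst hg
    exact (QuotientGroup.eq_one_iff e).1 ((show φ 1 = mk e from h).symm.trans φ.map_one)
  let π : Γ →* GL D.Idx K :=
    (D.group K).subtype.comp ((MonoidHom.fst _ _).comp Γ.subtype)
  have hπ1 : ∀ z : Γ, π z = 1 → z.1.1 = 1 := fun z h => Subtype.ext h
  let S : CentExt G K Γ :=
    { π := π
      central := fun z hz => by
        rw [Subgroup.mem_center_iff]
        intro w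
        have h1 := hπ1 z (MonoidHom.mem_ker.1 hz)
        have h2 := Subgroup.mem_center_iff.1 (hker (hΓP z.2) h1)
        refine Subtype.ext (Prod.ext ?_ (h2 _))
        show w.1.1 * z.1.1 = z.1.1 * w.1.1
        rw [h1, one_mul, mul_one]
      lifts := fun r t => by
        obtain ⟨e, he⟩ := hΓsurj ⟨_, G.x_mem_group r t⟩
        exact ⟨⟨_, he⟩, rfl⟩ }
  have hfin : Finite K → Finite Γ := fun _ => by
    choose sec hsec using hPsurj
    have : Finite (commutatorSet P) := by
      refine (Set.Finite.subset (Set.finite_range fun q : ↥(D.group K) × ↥(D.group K) =>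
        ⁅(⟨(q.1, sec q.1), hsec q.1⟩ : P), (⟨(q.2, sec q.2), hsec q.2⟩ : P)⁆) ?_).to_subtype
      rintro _ ⟨a, b, rfl⟩
      refine ⟨(a.1.1, b.1.1), ?_⟩
      have hz : ∀ a : P, ∃ z ∈ Subgroup.center P,
          (⟨(a.1.1, sec a.1.1), hsec a.1.1⟩ : P) = a * z := by
        intro a
        refine ⟨a⁻¹ * ⟨(a.1.1, sec a.1.1), hsec a.1.1⟩, ?_, by group⟩
        set c := a⁻¹ * (⟨(a.1.1, sec a.1.1), hsec a.1.1⟩ : P)
        have h1 : c.1.1 = 1 := inv_mul_cancel a.1.1
        have h2 := Subgroup.mem_center_iff.1 (hker c.2 h1)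
        rw [Subgroup.mem_center_iff]
        intro w
        refine Subtype.ext (Prod.ext ?_ (h2 _))
        show w.1.1 * c.1.1 = c.1.1 * w.1.1
        rw [h1, one_mul, mul_one]
      obtain ⟨z, hz1, hz2⟩ := hz a
      obtain ⟨w, hw1, hw2⟩ := hz b
      exact commutator_congr hz2 hw2 hz1 hw1
    have : Finite ↥((commutator P).map P.subtype) :=
      Finite.of_surjective (fun x : commutator P => (⟨_, Subgroup.mem_map_of_mem _ x.2⟩ :
        ↥((commutator P).map P.subtype))) fun ⟨_, x, hx, e⟩ => ⟨⟨x, hx⟩, Subtype.ext e⟩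
    have e : (commutator P).map P.subtype = Γ := by
      rw [commutator_def, Subgroup.map_commutator, ← MonoidHom.range_eq_map, Subgroup.range_subtype]
    exact e ▸ this
  have htor : ∀ p : ℕ, p.Prime → CharP K p → ∀ z, S.π z = 1 → z ^ p = 1 → z = 1 := by
    intro p hp hKp z hz hzp
    have h1 := hπ1 z hz
    have hLp : CharP L p := by
      have := ringChar.eq K p
      rw [this] at hL
      exact hL ▸ ringChar.charP L
    obtain ⟨a, ha⟩ :=
      Matrix.GeneralLinearGroup.mem_center_iff_val_mem_range_scalar.1 (hker (hΓP z.2) h1)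
    refine Subtype.ext (Prod.ext h1 (Units.ext ?_))
    rcases Nat.eq_zero_or_pos n with hn | hn
    · subst hn; exact Subsingleton.elim _ _
    have h2 : (z.1.2 : Matrix (Fin n) (Fin n) L) ^ p = 1 := by
      have := congrArg (fun x : Γ => (x.1.2 : Matrix (Fin n) (Fin n) L)) hzp
      simpa using this
    rw [← ha, ← map_pow] at h2
    have h3 : a ^ p = 1 := by
      have := congrFun (congrFun h2 ⟨0, hn⟩) ⟨0, hn⟩
      simpa using this
    have h4 : a = 1 := by
      have : (a - 1) ^ p = 0 := by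
        haveI : Fact p.Prime := ⟨hp⟩
        rw [sub_pow_char, h3, one_pow, sub_self]
      exact sub_eq_zero.1 (pow_eq_zero_iff hp.ne_zero |>.1 this)
    rw [← ha, h4, map_one]
    rfl
  obtain ⟨τ, hτ⟩ := hlift Γ S hfin htor
  have hfst : ∀ a, (τ a).1.1 = θ a := by
    have : ((MonoidHom.fst _ _).comp Γ.subtype).comp τ = θ := by
      refine PresentedGroup.ext fun q => Subtype.ext (Units.ext ?_)
      have e : PresentedGroup.of (rels := D.steinbergRelsAB K) q = D.scGen K q.1.val q.2 := by
        simp [ChevalleyDatum.scGen, ChevalleyDatum.stX]; rfl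
      rw [e, hθ _ _ q.1.isLt, ← G.full.coe_x']
      exact congrArg Units.val (hτ _ q.1.isLt q.2)
    exact fun a => DFunLike.congr_fun this a
  refine ⟨(MonoidHom.snd _ _).comp (Γ.subtype.comp τ), MonoidHom.ext fun a => ?_,
    fun ψ' hψ' => hom_eq_of_central hperf fun a => ?_⟩
  · have h : φ (τ a).1.1 = mk (τ a).1.2 := hΓP (τ a).2
    rw [hfst] at h
    exact h.symm
  · refine (QuotientGroup.eq_one_iff _).1 ?_
    show mk _ = 1
    have h : φ (τ a).1.1 = mk (τ a).1.2 := hΓP (τ a).2
    rw [map_mul, map_inv, inv_mul_eq_one]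
    rw [hfst] at h
    exact h.symm.trans (DFunLike.congr_fun hψ' a).symm

end CfsgLib.ChevMult
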