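/-
Simply laced data: central extensions satisfy Steinberg's relations over every field, by the
identity of Hall and Witt for three root elements spanning a system of type A3.
-/
import Cfsg.Agent.ChevMult.Base

set_option autoImplicit false

namespace CfsgLib.ChevMult

open Cfsg.Lie CfsgLib.Chev
open scoped commutatorElement MatrixGroups

/-- The `s`-th byte. -/
def byte (N s : ℕ) : ℕ := Nat.land (Nat.shiftRight N (Nat.mul 8 s)) 255

/-- Certificates: summands of roots, ranks of pairs and the distinguished pair of each root. -/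
structure PureCert where
  /-- first summand -/
  cA : ℕ → ℕ
  /-- second summand -/
  cB : ℕ → ℕ
  /-- rank -/
  rk : ℕ → ℕ
  /-- first member of the distinguished pair -/
  p1 : ℕ
  /-- second member of the distinguished pair -/
  p2 : ℕ

variable {D : ChevalleyDatum} (T : Tab D)

/-- The root elements commute. -/
def cQ (a b : ℕ) : Bool :=
  (T.ent a b).isEmpty && (T.ent b a).isEmpty && !(Nat.beq b (Tab.negR D a))

/-- The commutator formula for the pair has one term. -/
def one (a b : ℕ) : Option (ℕ × ℤ) :=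
  match T.ent a b, T.ent b a with
  | [p], [_] =>
    cond (!(Nat.beq b a) && !(Nat.beq b (Tab.negR D a)) && Nat.blt p.1 D.nroots &&
      Nat.beq p.2.natAbs 1) (some p) none
  | _, _ => none

/-- Commuting pair: `r = a + b` and `s` commutes with both. -/
def chkCom (r s a b : ℕ) : Bool :=
  Nat.blt a D.nroots && Nat.blt b D.nroots &&
  match one T a b with
  | some p => Nat.beq p.1 r && cQ T s a && cQ T s b
  | none => false

/-- The pair is the distinguished one of its sum. -/
def isPref (C : PureCert) (r s k : ℕ) : Bool :=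
  Nat.beq r (byte C.p1 k) && Nat.beq s (byte C.p2 k)

/-- One edge from the pair `(r, s)`: `r = a + b`, with `a`, `s` commuting. -/
def chkEdge (C : PureCert) (r s k : ℕ) : Bool :=
  let a := byte (C.cA r) s
  let b := byte (C.cB r) s
  Nat.blt a D.nroots && Nat.blt b D.nroots &&
  match one T a b, one T b s with
  | some p, some e =>
    Nat.beq p.1 r && cQ T a s && cQ T r e.1 && cQ T e.1 k &&
      (match one T a e.1 with
        | some k' => Nat.beq k'.1 k &&
            (isPref C r s k || Nat.blt (byte (C.rk a) e.1) (byte (C.rk r) s))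
        | none => false)
  | _, _ => false

/-- The certificate of a pair. -/
def chkRS (C : PureCert) (r s : ℕ) : Bool :=
  Nat.beq s (Tab.negR D r) ||
    cond (cQ T r s) (chkCom T r s (byte (C.cA r) s) (byte (C.cB r) s))
      (match one T r s with
        | some k => cQ T r k.1 && cQ T s k.1 &&
            cond (Nat.beq (byte (C.cA r) s) 255)
              ((match one T s r with | some k' => Nat.beq k'.1 k.1 | none => false) &&
                Nat.blt (byte (C.rk s) r) (byte (C.rk r) s))
              (chkEdge T C r s k.1)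
        | none => false)

/-- The distinguished pair has the given sum. -/
def chkPref (C : PureCert) (k : ℕ) : Bool :=
  Nat.blt (byte C.p1 k) D.nroots && Nat.blt (byte C.p2 k) D.nroots &&
  match one T (byte C.p1 k) (byte C.p2 k) with
  | some p => Nat.beq p.1 k
  | none => false

/-- All certificates. -/
structure PureOK (C : PureCert) : Prop where
  rs : ∀ r < D.nroots, ∀ s < D.nroots, chkRS T C r s = true
  pref : ∀ k < D.nroots, chkPref T C k = true

variable {T} (G : T.Good) {F : Type*} [Field F]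

theorem ne_of_beq_false {x y : ℕ} (h : Nat.beq x y = false) : x ≠ y := fun e => by
  subst e; rw [Nat.beq_refl] at h; exact Bool.noConfusion h

theorem beq_false_of_ne {x y : ℕ} (h : x ≠ y) : Nat.beq x y = false :=
  Bool.eq_false_iff.2 fun e => h (Nat.eq_of_beq_eq_true e)

theorem one_spec {a b k : ℕ} {M : ℤ} (h : one T a b = some (k, M)) :
    b ≠ a ∧ b ≠ Tab.negR D a ∧ k < D.nroots ∧ (M : F) * (M : F) = 1 ∧
      T.commT a b = [(k, M, 1, 1)] := by
  unfold one at h
  split at h
  · rename_i p q hab hba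
    cases hc : (!(Nat.beq b a) && !(Nat.beq b (Tab.negR D a)) && Nat.blt p.1 D.nroots &&
      Nat.beq p.2.natAbs 1)
    · simp [hc] at h
    · simp only [hc, cond_true, Option.some.injEq] at h
      subst h
      simp only [Bool.and_eq_true, Bool.not_eq_true', Nat.blt_eq, Nat.beq_eq] at hc
      obtain ⟨⟨⟨h1, h2⟩, h3⟩, h4⟩ := hc
      refine ⟨ne_of_beq_false h1, ne_of_beq_false h2, h3, ?_, ?_⟩
      · rcases Int.natAbs_eq M with e | e <;> rw [h4] at e <;> rw [e] <;> simp
      · simp [Tab.commT, Tab.rootT, Tab.mT, hab, hba]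
  · exact absurd h (by simp)

include G in
theorem x_one {a b k : ℕ} {M : ℤ} (ha : a < D.nroots) (hb : b < D.nroots)
    (h : one T a b = some (k, M)) (t u : F) :
    ⁅G.full.x a t, G.full.x b u⁆ = G.full.x k ((M : F) * t * u) := by
  obtain ⟨h1, h2, -, -, hc⟩ := one_spec (F := F) h
  rw [← commutatorElement_inv, x_commutator (G := G) ha hb h1 h2, hc]
  simp [rhsWord, G.full.x_inv]

include G in
theorem x_cQ {a b : ℕ} (ha : a < D.nroots) (hb : b < D.nroots) (h : cQ T a b = true) (t u : F) :
    Commute (G.full.x a t) (G.full.x b u) := by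
  rcases eq_or_ne b a with rfl | hne
  · show _ = _
    rw [G.full.x_add, G.full.x_add, add_comm]
  · simp only [cQ, Bool.and_eq_true, List.isEmpty_iff, Bool.not_eq_true'] at h
    have hc : T.commT a b = [] := by simp [Tab.commT, Tab.rootT, h.1.1, h.1.2]
    have e := x_commutator (G := G) ha hb hne (ne_of_beq_false h.2) t u
    rw [hc] at e
    simp only [rhsWord, List.map_nil, List.prod_nil, commutatorElement_eq_one_iff_commute] at e
    exact e.symm

namespace CentExt

variable {G} {Γ : Type*} [Group Γ] (S : CentExt G F Γ) {C : PureCert} (hC : PureOK T C)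
include S

/-- The commutator of lifts. -/
noncomputable def cm (r s : ℕ) (t u : F) : Γ := ⁅S.L r t, S.L s u⁆

theorem cm_eq {r s : ℕ} {t u : F} {g h : Γ} (hg : S.π g = G.full.x r t) (hh : S.π h = G.full.x s u) :
    ⁅g, h⁆ = S.cm r s t u :=
  S.comm_congr (hg.trans (S.π_L r t).symm) (hh.trans (S.π_L s u).symm)

theorem π_cm {r s k : ℕ} {M : ℤ} (hr : r < D.nroots) (hs : s < D.nroots)
    (h : one T r s = some (k, M)) (t u : F) : S.π (S.cm r s t u) = G.full.x k ((M : F) * t * u) := by
  rw [cm, map_commutatorElement, S.π_L, S.π_L, x_one G hr hs h]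

include hC in
/-- Lifts of commuting root elements commute. -/
theorem com {r s : ℕ} (hr : r < D.nroots) (hs : s < D.nroots) (h : cQ T r s = true) {t u : F}
    {g g' : Γ} (hg : S.π g = G.full.x r t) (hg' : S.π g' = G.full.x s u) : Commute g g' := by
  have hc := hC.rs r hr s hs
  have hn : Nat.beq s (Tab.negR D r) = false := by
    simp only [cQ, Bool.and_eq_true, Bool.not_eq_true'] at h
    exact h.2
  simp only [chkRS, hn, Bool.false_or, h, cond_true, chkCom, Bool.and_eq_true, Nat.blt_eq] at hc
  obtain ⟨⟨ha, hb⟩, hc⟩ := hc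
  set a := byte (C.cA r) s
  set b := byte (C.cB r) s
  split at hc
  swap
  · exact absurd hc (by simp)
  rename_i p hp
  obtain ⟨k, M⟩ := p
  simp only [Bool.and_eq_true, Nat.beq_eq] at hc
  obtain ⟨⟨rfl, hsa⟩, hsb⟩ := hc
  obtain ⟨-, -, -, hM, -⟩ := one_spec (F := F) hp
  have hπ : S.π (S.cm a b ((M : F) * t) 1) = S.π g := by
    rw [S.π_cm ha hb hp, hg, mul_one, ← mul_assoc, hM, one_mul]
  have fix : ∀ {c : ℕ} (_ : c < D.nroots) (_ : cQ T s c = true) (v : F),
      S.π (g' * S.L c v * g'⁻¹) = S.π (S.L c v) := fun hcl hq v => by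
    rw [map_mul, map_mul, map_inv, hg', S.π_L, (x_cQ G hs hcl hq u v).eq, mul_inv_cancel_right]
  have e : g' * S.cm a b ((M : F) * t) 1 * g'⁻¹ = S.cm a b ((M : F) * t) 1 := by
    rw [cm, conjugate_commutatorElement]
    exact S.comm_congr (fix ha hsa _) (fix hb hsb _)
  have e2 : Commute g' (S.cm a b ((M : F) * t) 1) := mul_inv_eq_iff_eq_mul.1 e
  obtain ⟨z, hz, rfl⟩ := S.cen hπ.symm
  exact (e2.mul_right (Subgroup.mem_center_iff.1 hz g')).symm

include hC in
theorem cm_add {r s k : ℕ} {M : ℤ} (hr : r < D.nroots) (hs : s < D.nroots)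
    (h : one T r s = some (k, M)) (hk : cQ T r k = true) (t t' u : F) :
    S.cm r s (t + t') u = S.cm r s t' u * S.cm r s t u := by
  have hkl := (one_spec (F := F) h).2.2.1
  have e : S.cm r s (t + t') u = ⁅S.L r t * S.L r t', S.L s u⁆ :=
    S.comm_congr (by rw [map_mul, S.π_L, S.π_L, S.π_L, G.full.x_add]) rfl
  have hc : Commute (S.L r t) (S.cm r s t' u) := S.com hC hr hkl hk (S.π_L r t) (S.π_cm hr hs h t' u)
  rw [e, show ⁅S.L r t * S.L r t', S.L s u⁆ = S.L r t * S.cm r s t' u * (S.L r t)⁻¹ * S.cm r s t u by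
    simp only [cm, commutatorElement_def]; group, hc.eq, mul_inv_cancel_right]

/-- The root element of `k` in the extension. -/
noncomputable def xq (C : PureCert) (k : ℕ) (v : F) : Γ :=
  S.cm (byte C.p1 k) (byte C.p2 k)
    ((((one T (byte C.p1 k) (byte C.p2 k)).getD (0, 0)).2 : F) * v) 1

include hC in
theorem π_xq {k : ℕ} (hk : k < D.nroots) (v : F) : S.π (S.xq C k v) = G.full.x k v := by
  have h := hC.pref k hk
  simp only [chkPref, Bool.and_eq_true, Nat.blt_eq] at h
  obtain ⟨⟨h1, h2⟩, h3⟩ := h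
  split at h3
  swap
  · exact absurd h3 (by simp)
  rename_i p hp
  obtain ⟨k', M⟩ := p
  simp only [Nat.beq_eq] at h3
  subst h3
  rw [xq, S.π_cm h1 h2 hp, hp, Option.getD_some, mul_one, ← mul_assoc,
    (one_spec (F := F) hp).2.2.2.1, one_mul]

include hC in
theorem xq_add {k : ℕ} (hk : k < D.nroots) (v w : F) :
    S.xq C k v * S.xq C k w = S.xq C k (v + w) := by
  have h := hC.pref k hk
  simp only [chkPref, Bool.and_eq_true, Nat.blt_eq] at h
  obtain ⟨⟨h1, h2⟩, h3⟩ := h
  split at h3
  swap
  · exact absurd h3 (by simp)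
  rename_i p hp
  obtain ⟨k', M⟩ := p
  simp only [Nat.beq_eq] at h3
  subst h3
  have hk2 : cQ T (byte C.p1 k') k' = true := by
    have hn := (one_spec (F := F) hp).2.1
    have hnb : Nat.beq (byte C.p2 k') (Tab.negR D (byte C.p1 k')) = false :=
      beq_false_of_ne hn
    have := hC.rs _ h1 _ h2
    simp only [chkRS, hnb, Bool.false_or] at this
    cases hq : cQ T (byte C.p1 k') (byte C.p2 k')
    · simp only [hq, cond_false, hp, Bool.and_eq_true] at this
      exact this.1.1
    · exfalso
      simp only [cQ, Bool.and_eq_true, List.isEmpty_iff] at hq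
      simp [one, hq.1.1] at hp
  rw [xq, xq, xq, mul_add, add_comm, S.cm_add hC h1 h2 hp hk2]

/-- All commutators for the pair are root elements of the sum. -/
def Q (C : PureCert) (r s k : ℕ) (M : ℤ) : Prop :=
  ∀ t u : F, S.cm r s t u = S.xq C k ((M : F) * t * u)

include hC in
theorem Q_of {r s k : ℕ} {M : ℤ} (hr : r < D.nroots) (hs : s < D.nroots)
    (h : one T r s = some (k, M)) {f : F → F → F} (hf : ∀ t u, S.cm r s t u = S.xq C k (f t u)) :
    S.Q C r s k M := fun t u => by
  have hk := (one_spec (F := F) h).2.2.1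
  have e := congrArg S.π (hf t u)
  rw [S.π_cm hr hs h, S.π_xq hC hk] at e
  rw [hf, G.x_inj hk e]

include hC in
theorem xq_zero {k : ℕ} (hk : k < D.nroots) : S.xq C k 0 = 1 := by
  have := S.xq_add hC hk 0 0
  rwa [add_zero, mul_eq_left] at this

include hC in
theorem xq_inv {k : ℕ} (hk : k < D.nroots) (v : F) : (S.xq C k v)⁻¹ = S.xq C k (-v) := by
  rw [inv_eq_iff_mul_eq_one, S.xq_add hC hk, add_neg_cancel, S.xq_zero hC hk]

omit [Field F] S in
/-- The identity of Hall and Witt for `(a, b, s)`. -/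
theorem hall_witt {A B Sg : Γ} (h1 : Commute A Sg) (h2 : Commute ⁅A, B⁆ ⁅B, Sg⁆)
    (h3 : Commute ⁅B, Sg⁆ ⁅A, ⁅B, Sg⁆⁆) : ⁅⁅A, B⁆, Sg⁆ = ⁅A, ⁅B, Sg⁆⁆ := by
  set X := ⁅A, B⁆ with hX
  set Y := ⁅B, Sg⁆ with hY
  have eA : Sg * A * Sg⁻¹ = A := by rw [← h1.eq, mul_inv_cancel_right]
  have eB : Sg * B * Sg⁻¹ = Y⁻¹ * B := by simp only [hY, commutatorElement_def]; group
  have e1 : Sg * X * Sg⁻¹ = A * Y⁻¹ * A⁻¹ * X * Y := by
    rw [hX, conjugate_commutatorElement, eA, eB, ← hX]
    simp only [hX, commutatorElement_def]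
    group
  have e2 : Sg * X * Sg⁻¹ * X⁻¹ = ⁅A, Y⁆⁻¹ := by
    rw [e1, show A * Y⁻¹ * A⁻¹ * X * Y * X⁻¹ = A * Y⁻¹ * A⁻¹ * (X * Y) * X⁻¹ by group, h2.eq,
      show A * Y⁻¹ * A⁻¹ * (Y * X) * X⁻¹ = A * Y⁻¹ * A⁻¹ * Y by group,
      show A * Y⁻¹ * A⁻¹ * Y = Y⁻¹ * ⁅A, Y⁆⁻¹ * Y by simp only [commutatorElement_def]; group,
      mul_assoc, ← h3.inv_right.eq, inv_mul_cancel_left]
  rw [show ⁅X, Sg⁆ = (Sg * X * Sg⁻¹ * X⁻¹)⁻¹ by simp only [commutatorElement_def]; group, e2,
    inv_inv]

include hC in
theorem Q_all : ∀ (n r s k : ℕ) (M : ℤ), byte (C.rk r) s = n → r < D.nroots → s < D.nroots →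
    one T r s = some (k, M) → S.Q C r s k M := by
  intro n
  induction n using Nat.strong_induction_on with
  | _ n ih =>
    intro r s k M hn hr hs hone
    subst hn
    obtain ⟨-, hn2, hk, hM, -⟩ := one_spec (F := F) hone
    have hc := hC.rs r hr s hs
    have hnb : Nat.beq s (Tab.negR D r) = false :=
      beq_false_of_ne hn2
    have hq : cQ T r s = false := by
      refine Bool.eq_false_iff.2 fun hq => ?_
      simp only [cQ, Bool.and_eq_true, List.isEmpty_iff] at hq
      simp [one, hq.1.1] at hone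
    simp only [chkRS, hnb, Bool.false_or, hq, cond_false, hone, Bool.and_eq_true] at hc
    obtain ⟨⟨hrk, hsk⟩, hc⟩ := hc
    cases hfl : Nat.beq (byte (C.cA r) s) 255
    swap
    · simp only [hfl, cond_true, Bool.and_eq_true, Nat.blt_eq] at hc
      obtain ⟨hc1, hc2⟩ := hc
      split at hc1
      swap
      · exact absurd hc1 (by simp)
      rename_i p hp
      obtain ⟨k', M'⟩ := p
      simp only [Nat.beq_eq] at hc1
      subst hc1
      have hQ := ih _ hc2 s r k' M' rfl hs hr hp
      refine S.Q_of hC hr hs hone (f := fun t u => -((M' : F) * u * t)) fun t u => ?_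
      rw [cm, ← commutatorElement_inv, ← cm, hQ, S.xq_inv hC hk]
    · simp only [hfl, cond_false, chkEdge, Bool.and_eq_true, Nat.blt_eq] at hc
      obtain ⟨⟨ha, hb⟩, hc⟩ := hc
      set a := byte (C.cA r) s
      set b := byte (C.cB r) s
      split at hc
      swap
      · exact absurd hc (by simp)
      rename_i p e hp he
      obtain ⟨r', M1⟩ := p
      obtain ⟨e1, M2⟩ := e
      simp only [Bool.and_eq_true, Nat.beq_eq] at hc
      obtain ⟨⟨⟨⟨rfl, has⟩, hre⟩, hek⟩, hc⟩ := hc
      split at hc
      swap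
      · exact absurd hc (by simp)
      rename_i k' hk'
      obtain ⟨k', M4⟩ := k'
      simp only [Bool.and_eq_true, Nat.beq_eq, Bool.or_eq_true, Nat.blt_eq] at hc
      obtain ⟨rfl, hc⟩ := hc
      have hel := (one_spec (F := F) he).2.2.1
      have hM1 := (one_spec (F := F) hp).2.2.2.1
      have key : ∀ t u v : F,
          S.cm r' s ((M1 : F) * t * u) v = S.cm a e1 t ((M2 : F) * u * v) := fun t u v => by
        have hX := S.π_cm ha hb hp t u
        have hY := S.π_cm hb hs he u v
        rw [← S.cm_eq hX (S.π_L s v), ← S.cm_eq (S.π_L a t) hY]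
        refine hall_witt (S.com hC ha hs has (S.π_L a t) (S.π_L s v))
          (S.com hC hr hel hre hX hY)
          (S.com hC hel hk hek (u := (M4 : F) * t * ((M2 : F) * u * v)) hY ?_)
        rw [map_commutatorElement, S.π_L]
        rw [show S.π ⁅S.L b u, S.L s v⁆ = G.full.x e1 ((M2 : F) * u * v) from hY, x_one G ha hel hk']
      have key' : ∀ t v : F, S.cm r' s t v = S.cm a e1 ((M1 : F) * t) ((M2 : F) * v) := fun t v => by
        have := key ((M1 : F) * t) 1 v
        rwa [mul_one, mul_one, ← mul_assoc, hM1, one_mul] at this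
      rcases hc with hpref | hlt
      · simp only [isPref, Bool.and_eq_true, Nat.beq_eq] at hpref
        have hv : ∀ t u : F, S.cm r' s t u = S.cm r' s (t * u) 1 := fun t u => by
          have h1 := key 1 ((M1 : F) * t) u
          have h2 := key 1 ((M1 : F) * (t * u)) 1
          rw [mul_one, ← mul_assoc, hM1, one_mul] at h1
          rw [mul_one, ← mul_assoc, hM1, one_mul] at h2
          rw [h1, h2]
          congr 1
          ring
        intro t u
        rw [hv, xq, ← hpref.1, ← hpref.2, hone, Option.getD_some, ← mul_assoc, ← mul_assoc, hM,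
          one_mul]
      · have hQ := ih _ hlt a e1 k' M4 rfl ha hel hk'
        exact S.Q_of hC hr hs hone
          (f := fun t u => (M4 : F) * ((M1 : F) * t) * ((M2 : F) * u)) fun t u => by rw [key', hQ]

include hC in
/-- Steinberg's relations lift. -/
theorem exists_hom_pure : ∃ τ : D.SteinbergCover F →* Γ,
    ∀ r < D.nroots, ∀ t, S.π (τ (D.scGen F r t)) = G.full.x r t := by
  refine S.exists_hom (S.xq C) (fun r hr t => S.π_xq hC hr t) (fun r hr => S.xq_add hC hr)
    fun r hr s hs hne hne' t u => ?_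
  have hc := hC.rs r hr s hs
  have hnb : Nat.beq s (Tab.negR D r) = false :=
    beq_false_of_ne hne'
  have e1 : (S.xq C s u)⁻¹ * (S.xq C r t)⁻¹ * S.xq C s u * S.xq C r t =
      ⁅(S.xq C s u)⁻¹, (S.xq C r t)⁻¹⁆ := by simp [commutatorElement_def]
  have hgs : S.π (S.xq C s u)⁻¹ = G.full.x s (-u) := by rw [map_inv, S.π_xq hC hs, G.full.x_inv]
  have hgr : S.π (S.xq C r t)⁻¹ = G.full.x r (-t) := by rw [map_inv, S.π_xq hC hr, G.full.x_inv]
  rw [e1]
  simp only [chkRS, hnb, Bool.false_or] at hc
  cases hq : cQ T r s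
  · simp only [hq, cond_false] at hc
    split at hc
    swap
    · exact absurd hc (by simp)
    rename_i p hp
    obtain ⟨k, M⟩ := p
    obtain ⟨-, -, hk, -, hcomm⟩ := one_spec (F := F) hp
    rw [← commutatorElement_inv, S.cm_eq hgr hgs, S.Q_all hC _ r s k M rfl hr hs hp,
      S.xq_inv hC hk, hcomm]
    simp [rhsWord]
  · have hcomm : T.commT r s = [] := by
      simp only [cQ, Bool.and_eq_true, List.isEmpty_iff] at hq
      simp [Tab.commT, Tab.rootT, hq.1.1, hq.1.2]
    rw [hcomm, commutatorElement_eq_one_iff_commute.2 (S.com hC hr hs hq hgr hgs).symm]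
    simp [rhsWord]

end CentExt

end CfsgLib.ChevMult
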